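import Groth.Agent.HomRep.Local
/-!
The group structure of the scheme of homomorphisms into a commutative group.
-/

set_option autoImplicit false
set_option backward.isDefEq.respectTransparency false
set_option backward.isDefEq.respectTransparency.types false
set_option linter.style.haveILetI false

universe u

open CategoryTheory CategoryTheory.Limits MonoidalCategory CartesianMonoidalCategory MonObj GrpObj AlgebraicGeometry

noncomputable section

namespace Groth.Agent.HomRep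

variable {S : Scheme.{u}} {H G : Over S} [GrpObj H] [GrpObj G]

/-- The points of a group commute. -/
def CommPts (G : Over S) [GrpObj G] : Prop := ∀ (X : Over S) (a b : X ⟶ G), a * b = b * a

/-- The families with commutative target form a group. -/
def famGroup (hG : CommPts G) (T : Over S) : Subgroup (H ⊗ T ⟶ G) where
  carrier := {φ | AutFam.IsHomFamily H G φ}
  mul_mem' {φ ψ} hφ hψ X g₁ g₂ t := by
    letI : CommGroup (X ⟶ G) := { (inferInstance : Group (X ⟶ G)) with mul_comm := hG X }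
    simp only [MonObj.comp_mul, hφ X g₁ g₂ t, hψ X g₁ g₂ t]
    exact mul_mul_mul_comm _ _ _ _
  one_mem' X g₁ g₂ t := by simp only [MonObj.comp_one, _root_.mul_one]
  inv_mem' {φ} hφ X g₁ g₂ t := by
    letI : CommGroup (X ⟶ G) := { (inferInstance : Group (X ⟶ G)) with mul_comm := hG X }
    simp only [GrpObj.comp_inv, hφ X g₁ g₂ t]
    exact _root_.mul_inv _ _

/-- The presheaf of groups of families. -/
def famFunctor (hG : CommPts G) : (Over S)ᵒᵖ ⥤ GrpCat.{u} where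
  obj T := GrpCat.of (famGroup (H := H) hG T.unop)
  map {T T'} t := GrpCat.ofHom
    { toFun := fun φ => ⟨(H ◁ t.unop) ≫ φ.1, isHomFamily_comp t.unop φ.2⟩
      map_one' := Subtype.ext (MonObj.comp_one _)
      map_mul' := fun _ _ => Subtype.ext (MonObj.comp_mul _ _ _) }
  map_id T := GrpCat.hom_ext (MonoidHom.ext fun φ => Subtype.ext (by
    show (H ◁ 𝟙 _) ≫ φ.1 = φ.1
    rw [whiskerLeft_id, Category.id_comp]))
  map_comp t t' := GrpCat.hom_ext (MonoidHom.ext fun φ => Subtype.ext (by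
    show (H ◁ (t'.unop ≫ t.unop)) ≫ φ.1 = (H ◁ t'.unop) ≫ (H ◁ t.unop) ≫ φ.1
    rw [whiskerLeft_comp_assoc]))

/-- A scheme of homomorphisms into a commutative group is a group. -/
theorem exists_grpObj (hG : CommPts G) {D : Over S} {υ : H ⊗ D ⟶ G}
    (h : AutFam.RepresentsHom H G D υ) :
    ∃ _ : GrpObj D, ∀ (X : Over S) (a b : X ⟶ D), (H ◁ (a * b)) ≫ υ = ((H ◁ a) ≫ υ) * ((H ◁ b) ≫ υ) := by
  let α : (famFunctor (H := H) hG ⋙ forget _).RepresentableBy D :=
    { homEquiv := fun {T} =>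
        { toFun := fun a => ⟨(H ◁ a) ≫ υ, isHomFamily_comp a h.1⟩
          invFun := fun φ => (h.2 T φ.1 φ.2).choose
          left_inv := fun a => ((h.2 T _ (isHomFamily_comp a h.1)).choose_spec.2 a rfl).symm
          right_inv := fun φ => Subtype.ext (h.2 T φ.1 φ.2).choose_spec.1 }
      homEquiv_comp := fun {T T'} t a => Subtype.ext (by
        show (H ◁ (t ≫ a)) ≫ υ = (H ◁ t) ≫ (H ◁ a) ≫ υ
        rw [whiskerLeft_comp_assoc]) }
  letI : GrpObj D := GrpObj.ofRepresentableBy D _ α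
  refine ⟨inferInstance, fun X a b => ?_⟩
  have hμ : μ[D] = α.homEquiv.symm (α.homEquiv (fst D D) * α.homEquiv (snd D D)) := rfl
  rw [Hom.mul_def, hμ]
  have h1 : ∀ (T : Over S) (φ : (famFunctor (H := H) hG ⋙ forget _).obj (Opposite.op T)),
      (H ◁ α.homEquiv.symm φ) ≫ υ = φ.1 := fun T φ => congrArg Subtype.val (α.homEquiv.apply_symm_apply φ)
  rw [whiskerLeft_comp_assoc, h1]
  show (H ◁ lift a b) ≫ (((H ◁ fst D D) ≫ υ) * ((H ◁ snd D D) ≫ υ)) = _
  rw [MonObj.comp_mul, ← whiskerLeft_comp_assoc, ← whiskerLeft_comp_assoc, lift_fst, lift_snd]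

variable {S' : Scheme.{u}} (f : S' ⟶ S)

/-- The scheme of homomorphisms commutes with base change. -/
theorem exists_representsHom_bc {D : Over S} {υ : H ⊗ D ⟶ G} (h : AutFam.RepresentsHom H G D υ) :
    ∃ υ' : Red.bc f H ⊗ Red.bc f D ⟶ Red.bc f G, AutFam.RepresentsHom _ _ (Red.bc f D) υ' ∧
      ∀ (T : Over S') (a : T ⟶ Red.bc f D), (Red.bc f H ◁ a) ≫ υ' =
        (Over.mapPullbackAdj f).homEquiv _ _ (proj f H T ≫ (H ◁ ((Over.mapPullbackAdj f).homEquiv _ _).symm a) ≫ υ) := by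
  let ε : (Over.map f).obj (Red.bc f D) ⟶ D := ((Over.mapPullbackAdj f).homEquiv _ _).symm (𝟙 (Red.bc f D))
  let φ : H ⊗ (Over.map f).obj (Red.bc f D) ⟶ G := (H ◁ ε) ≫ υ
  let υ' : Red.bc f H ⊗ Red.bc f D ⟶ Red.bc f G := (Over.mapPullbackAdj f).homEquiv _ _ (proj f H _ ≫ φ)
  have hυ' : ∀ (T : Over S') (a : T ⟶ Red.bc f D), (Red.bc f H ◁ a) ≫ υ' =
      (Over.mapPullbackAdj f).homEquiv _ _ (proj f H T ≫ (H ◁ ((Over.mapPullbackAdj f).homEquiv _ _).symm a) ≫ υ) := by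
    intro T a
    rw [← Adjunction.homEquiv_naturality_left, ← Category.assoc, proj_natural, Category.assoc,
      ← whiskerLeft_comp_assoc, ← Adjunction.homEquiv_naturality_left_symm, Category.comp_id]
  refine ⟨υ', ⟨(isHomFamily_iff f φ).1 (isHomFamily_comp ε h.1), fun T ψ hψ => ?_⟩, hυ'⟩
  let φT : H ⊗ (Over.map f).obj T ⟶ G := inv (proj f H T) ≫ ((Over.mapPullbackAdj f).homEquiv _ _).symm ψ
  have hφT : (Over.mapPullbackAdj f).homEquiv _ _ (proj f H T ≫ φT) = ψ := by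
    rw [IsIso.hom_inv_id_assoc, Equiv.apply_symm_apply]
  obtain ⟨a, ha, huniq⟩ := h.2 _ φT ((isHomFamily_iff f φT).2 (by rw [hφT]; exact hψ))
  refine ⟨(Over.mapPullbackAdj f).homEquiv _ _ a, ?_, fun b hb => ?_⟩
  · show (Red.bc f H ◁ _) ≫ υ' = ψ
    rw [hυ', Equiv.symm_apply_apply, ha, hφT]
  · replace hb : (Red.bc f H ◁ b) ≫ υ' = ψ := hb
    rw [hυ', ← hφT] at hb
    have h1 := (cancel_epi (proj f H T)).1 (((Over.mapPullbackAdj f).homEquiv _ _).injective hb)
    rw [← huniq _ h1, Equiv.apply_symm_apply]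

/-- The base change of a multiplicative universal family is multiplicative. -/
theorem bc_family_mul {D : Over S} [GrpObj D] {υ : H ⊗ D ⟶ G}
    (hmul : ∀ (X : Over S) (a b : X ⟶ D), (H ◁ (a * b)) ≫ υ = ((H ◁ a) ≫ υ) * ((H ◁ b) ≫ υ))
    {υ' : Red.bc f H ⊗ Red.bc f D ⟶ Red.bc f G}
    (hυ' : ∀ (T : Over S') (a : T ⟶ Red.bc f D), (Red.bc f H ◁ a) ≫ υ' =
      (Over.mapPullbackAdj f).homEquiv _ _ (proj f H T ≫ (H ◁ ((Over.mapPullbackAdj f).homEquiv _ _).symm a) ≫ υ))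
    (T : Over S') (a b : T ⟶ Red.bc f D) :
    (Red.bc f H ◁ (a * b)) ≫ υ' = ((Red.bc f H ◁ a) ≫ υ') * ((Red.bc f H ◁ b) ≫ υ') := by
  rw [hυ', hυ', hυ', ← homEquiv_mul]
  congr 1
  have e : ((Over.mapPullbackAdj f).homEquiv T D).symm (a * b) =
      ((Over.mapPullbackAdj f).homEquiv T D).symm a * ((Over.mapPullbackAdj f).homEquiv T D).symm b := by
    rw [Equiv.symm_apply_eq, homEquiv_mul, Equiv.apply_symm_apply, Equiv.apply_symm_apply]
  rw [e, hmul, MonObj.comp_mul]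

/-- The comparison of two schemes of homomorphisms. -/
theorem exists_comparison {A B : Over S} {υA : H ⊗ A ⟶ G} {υB : H ⊗ B ⟶ G}
    (hA : AutFam.RepresentsHom H G A υA) (hB : AutFam.RepresentsHom H G B υB) :
    ∃ e : A ≅ B, (H ◁ e.hom) ≫ υB = υA ∧ (H ◁ e.inv) ≫ υA = υB := by
  obtain ⟨a, ha, -⟩ := hB.2 A υA hA.1
  obtain ⟨b, hb, -⟩ := hA.2 B υB hB.1
  refine ⟨⟨a, b, ?_, ?_⟩, ha, hb⟩
  · refine (hA.2 A υA hA.1).unique ?_ ?_
    · show (H ◁ (a ≫ b)) ≫ υA = υA
      rw [whiskerLeft_comp_assoc, hb, ha]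
    · show (H ◁ 𝟙 A) ≫ υA = υA
      rw [whiskerLeft_id, Category.id_comp]
  · refine (hB.2 B υB hB.1).unique ?_ ?_
    · show (H ◁ (b ≫ a)) ≫ υB = υB
      rw [whiskerLeft_comp_assoc, ha, hb]
    · show (H ◁ 𝟙 B) ≫ υB = υB
      rw [whiskerLeft_id, Category.id_comp]

end Groth.Agent.HomRep
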