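import Groth.Agent.HomRep.Quasi
import Groth.Agent.HomRep.GroupStr
/-!
The dual of a quasi-isotrivial group of multiplicative type is a twisted constant group.
-/

set_option autoImplicit false
set_option backward.isDefEq.respectTransparency false
set_option backward.isDefEq.respectTransparency.types false
set_option linter.style.haveILetI false

universe u

open CategoryTheory CategoryTheory.Limits MonoidalCategory CartesianMonoidalCategory MonObj GrpObj AlgebraicGeometry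

noncomputable section

namespace Groth.Agent.HomRep

open DSMapLib

variable {S : Scheme.{u}}

/-- The maps of diagonalisable groups are additive in the character map. -/
theorem DSmap_add {M N : Type} [AddCommGroup M] [AddCommGroup N] (φ φ' : M →+ N) :
    Red.DSmap S (φ + φ') = Red.DSmap S φ * Red.DSmap S φ' := by
  refine FixedSmooth.hom_ext_affine _ _ fun B q x => ?_
  obtain ⟨χ, rfl⟩ := (dsPt N q).surjective x
  rw [dsPt_comp, MonObj.comp_mul, dsPt_comp, dsPt_comp, ← map_mul]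
  congr 1
  ext m
  show χ (Multiplicative.ofAdd ((φ + φ') (Multiplicative.toAdd m))) =
    χ (Multiplicative.ofAdd (φ (Multiplicative.toAdd m))) * χ (Multiplicative.ofAdd (φ' (Multiplicative.toAdd m)))
  rw [← map_mul]
  rfl

/-- Diagonalisable groups are commutative. -/
theorem DS_comm (M : Type) [AddCommGroup M] : CommPts (Red.DS S M) := fun X a b => by
  refine FixedSmooth.hom_ext_affine _ _ fun B q x => ?_
  rw [MonObj.comp_mul, MonObj.comp_mul]
  obtain ⟨χ, hχ⟩ := (dsPt M q).surjective (x ≫ a)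
  obtain ⟨χ', hχ'⟩ := (dsPt M q).surjective (x ≫ b)
  rw [← hχ, ← hχ', ← map_mul, ← map_mul, _root_.mul_comm]

/-- The universal family of a constant scheme of homomorphisms is multiplicative in the parameters. -/
theorem pt_mul_DS {S' : Scheme.{u}} {M N : Type} [AddCommGroup M] [AddCommGroup N] {H' G' : Over S'} [GrpObj H'] [GrpObj G']
    (eH : Grp.mk H' ≅ Grp.mk (Red.DS S' M)) (eG : Grp.mk G' ≅ Grp.mk (Red.DS S' N)) {I : Type u} {ρ : I ≃ (N →+ M)}
    {υc : Red.DS S' M ⊗ TwC.const S' I ⟶ Red.DS S' N}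
    (hpt : ∀ i, (Red.DS S' M ◁ TwC.pt S' I i) ≫ υc = fst (Red.DS S' M) (𝟙_ (Over S')) ≫ Red.DSmap S' (ρ i))
    (m n k : I) (hk : ρ k = ρ m + ρ n) :
    (H' ◁ TwC.pt S' I k) ≫ (eH.hom.hom.hom ▷ TwC.const S' I) ≫ υc ≫ eG.inv.hom.hom =
      ((H' ◁ TwC.pt S' I m) ≫ (eH.hom.hom.hom ▷ TwC.const S' I) ≫ υc ≫ eG.inv.hom.hom) *
      ((H' ◁ TwC.pt S' I n) ≫ (eH.hom.hom.hom ▷ TwC.const S' I) ≫ υc ≫ eG.inv.hom.hom) := by
  have h : ∀ i, (H' ◁ TwC.pt S' I i) ≫ (eH.hom.hom.hom ▷ TwC.const S' I) ≫ υc ≫ eG.inv.hom.hom =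
      (eH.hom.hom.hom ▷ 𝟙_ (Over S')) ≫ (fst (Red.DS S' M) (𝟙_ (Over S')) ≫ Red.DSmap S' (ρ i)) ≫ eG.inv.hom.hom := by
    intro i
    rw [← hpt, whisker_exchange_assoc, Category.assoc]
  rw [h, h, h, hk, DSmap_add, MonObj.comp_mul, MonObj.mul_comp, MonObj.comp_mul]

/-- A multiplicative chart makes the scheme of homomorphisms a constant group. -/
theorem exists_constGrp_chart {S' : Scheme.{u}} (f : S' ⟶ S) {H G D : Over S} [GrpObj H] [GrpObj G] [GrpObj D]
    {υ : H ⊗ D ⟶ G} (hυ : AutFam.RepresentsHom H G D υ)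
    (hmul : ∀ (X : Over S) (a b : X ⟶ D), (H ◁ (a * b)) ≫ υ = ((H ◁ a) ≫ υ) * ((H ◁ b) ≫ υ))
    {I : Type u} [Group I] {υc : Red.bc f H ⊗ TwC.const S' I ⟶ Red.bc f G}
    (hc : AutFam.RepresentsHom (Red.bc f H) (Red.bc f G) (TwC.const S' I) υc)
    (hF : ∀ m n : I, (Red.bc f H ◁ TwC.pt S' I (m * n)) ≫ υc =
      ((Red.bc f H ◁ TwC.pt S' I m) ≫ υc) * ((Red.bc f H ◁ TwC.pt S' I n) ≫ υc)) :
    ∃ e : Red.bc f D ≅ TwC.const S' I, TwC.IsConstGrp I (Red.bc f D) e := by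
  obtain ⟨υ', hυ', hυ'f⟩ := exists_representsHom_bc f hυ
  obtain ⟨e, -, he⟩ := exists_comparison hυ' hc
  refine ⟨e, fun m n => ?_⟩
  refine (hυ'.2 _ _ (isHomFamily_comp ((TwC.pt S' I m ≫ e.inv) * (TwC.pt S' I n ≫ e.inv)) hυ'.1)).unique rfl ?_
  show (Red.bc f H ◁ (TwC.pt S' I (m * n) ≫ e.inv)) ≫ υ' = _
  rw [bc_family_mul f hmul hυ'f]
  simp only [whiskerLeft_comp_assoc, he]
  exact hF m n

/-- Homomorphisms of a quasi-isotrivial group of multiplicative type into a diagonalisable group of finite type. -/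
theorem exists_dual_aux (N : Type) [iN : AddCommGroup N] [AddGroup.FG N] (H : Over S) [GrpObj H]
    (hH : TwC.Locally S TwC.Topology.etale (fun S' f => ∃ (M : Type) (_ : AddCommGroup M),
      Nonempty (Grp.mk (Red.bc f H) ≅ Grp.mk (Red.DS S' M)))) :
    ∃ (D : Over S) (_ : GrpObj D) (υ : H ⊗ D ⟶ Red.DS S N), AutFam.RepresentsHom H (Red.DS S N) D υ ∧
      (∀ (X : Over S) (h : X ⟶ H) (a b : X ⟶ D), lift h (a * b) ≫ υ = (lift h a ≫ υ) * (lift h b ≫ υ)) ∧
      TwC.IsTwConstGrp TwC.Topology.etale D := by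
  obtain ⟨D, υ, hυ, -⟩ := exists_representsHom_quasi H (Red.DS S N) hH fun s => ⟨S, 𝟙 S, inferInstance, ⟨s, rfl⟩,
    N, iN, ‹AddGroup.FG N›, ⟨MaxTorus.dsBc (𝟙 S) N⟩⟩
  obtain ⟨iD, hmul⟩ := exists_grpObj (H := H) (G := Red.DS S N) (DS_comm (S := S) N) hυ
  letI := iD
  refine ⟨D, iD, υ, hυ, fun X h a b => ?_, fun s => ?_⟩
  · have e : ∀ c : X ⟶ D, lift h c ≫ υ = lift h (𝟙 X) ≫ (H ◁ c) ≫ υ := fun c => by
      rw [lift_whiskerLeft_assoc, Category.id_comp]
    rw [e, e, e, hmul, MonObj.comp_mul]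
  · obtain ⟨S', f, hf, hs, M, iM, ⟨eH⟩⟩ := hH s
    let I : Type u := ULift.{u} (Multiplicative (N →+ M))
    let ρ : I ≃ (N →+ M) := Equiv.ulift.trans Multiplicative.toAdd
    let eG := MaxTorus.dsBc f N
    obtain ⟨υc, hυc, hpt⟩ := exists_representsHom_DS S' M N I ρ
    obtain ⟨e, he⟩ := exists_constGrp_chart f hυ hmul (representsHom_of_iso eH eG hυc) fun m n => by
      exact pt_mul_DS eH eG hpt (ρ := ρ) m n (m * n) rfl
    exact ⟨S', f, hf, hs, I, inferInstance, e, he⟩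

/-- The dual of a quasi-isotrivial group of multiplicative type. -/
theorem exists_dual (H : Over S) [GrpObj H]
    (hH : TwC.Locally S TwC.Topology.etale (fun S' f => ∃ (M : Type) (_ : AddCommGroup M),
      Nonempty (Grp.mk (Red.bc f H) ≅ Grp.mk (Red.DS S' M)))) :
    ∃ (D : Over S) (_ : GrpObj D) (υ : H ⊗ D ⟶ Red.Gm S), AutFam.RepresentsHom H (Red.Gm S) D υ ∧
      (∀ (X : Over S) (h : X ⟶ H) (a b : X ⟶ D), lift h (a * b) ≫ υ = (lift h a ≫ υ) * (lift h b ≫ υ)) ∧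
      TwC.IsTwConstGrp TwC.Topology.etale D :=
  exists_dual_aux ℤ H hH

end Groth.Agent.HomRep
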