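import Groth.Agent.HomRep.IntoAffine
import Groth.Agent.HomRep.Dual
import Groth.Agent.SubDesc.Glue
import Groth.Agent.SubDesc.Family
import Groth.Agent.SchDesc.Family
/-!
The dual of a twisted constant commutative group is a group of multiplicative type.
-/

set_option autoImplicit false
set_option backward.isDefEq.respectTransparency false
set_option backward.isDefEq.respectTransparency.types false
set_option linter.style.haveILetI false

universe u

open CategoryTheory CategoryTheory.Limits MonoidalCategory CartesianMonoidalCategory MonObj GrpObj AlgebraicGeometry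

noncomputable section

namespace Groth.Agent.HomRep

open DSMapLib

variable {S : Scheme.{u}} {M : Type} {H : Over S} (e : H ≅ TwC.const S M)

/-- The point of index `m`. -/
def ptH (m : M) : 𝟙_ (Over S) ⟶ H := TwC.pt S M m ≫ e.inv

/-- The piece of index `m` of the product with a constant scheme. -/
def cpt (T : Over S) (m : M) : T ⟶ H ⊗ T := lift (toUnit T ≫ ptH e m) (𝟙 T)

theorem cpt_comp {T' T : Over S} (t : T' ⟶ T) (m : M) : t ≫ cpt e T m = cpt e T' m ≫ (H ◁ t) := by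
  rw [cpt, cpt, comp_lift, lift_whiskerLeft, comp_toUnit_assoc, Category.comp_id, Category.id_comp]

theorem lift_ptH {T : Over S} {Y : Over S} (y : Y ⟶ T) (m : M) :
    lift (toUnit Y ≫ ptH e m) y = y ≫ cpt e T m := by
  rw [cpt, comp_lift, comp_toUnit_assoc, Category.comp_id]

/-- The locus where a point has index `m`. -/
def locus {Y : Over S} (g : Y ⟶ H) (m : M) : Y.left.Opens :=
  (g ≫ e.hom).left ⁻¹ᵁ (Sigma.ι (fun _ : M => S) m).opensRange

theorem mem_locus {Y : Over S} (g : Y ⟶ H) (t : Y.left) : ∃ m, t ∈ locus e g m := by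
  obtain ⟨m, s, hs⟩ := (sigmaOpenCover fun _ : M => S).exists_eq ((g ≫ e.hom).left t)
  exact ⟨m, s, hs⟩

theorem comp_eq_ptH {Y : Over S} (g : Y ⟶ H) (m : M) (V : Y.left.Opens) (hV : V ≤ locus e g m) :
    openRes Y V ≫ g = toUnit _ ≫ ptH e m := by
  let a := openRes Y V ≫ g ≫ e.hom
  let l := IsOpenImmersion.lift (Sigma.ι (fun _ : M => S) m) a.left (by
    rintro _ ⟨z, rfl⟩
    exact hV z.2)
  have hl : l ≫ Sigma.ι (fun _ : M => S) m = a.left := IsOpenImmersion.lift_fac _ _ _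
  have hl' : l = V.ι ≫ Y.hom := by
    have h1 := Over.w a
    rw [← hl, Category.assoc] at h1
    simpa using h1
  have h2 : a = toUnit _ ≫ TwC.pt S M m := Over.OverMorphism.ext (hl.symm.trans (by rw [hl']; rfl))
  rw [ptH, ← Category.assoc, ← h2]
  simp [a]

/-- Morphisms out of the product are determined by their pieces. -/
theorem hom_ext_pieces {T G : Over S} {f g : H ⊗ T ⟶ G} (h : ∀ m, cpt e T m ≫ f = cpt e T m ≫ g) : f = g := by
  refine hom_ext_opens (fun m => locus e (fst H T) m) (mem_locus e _) fun m => ?_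
  have hR : openRes (H ⊗ T) (locus e (fst H T) m) =
      (openRes (H ⊗ T) (locus e (fst H T) m) ≫ snd H T) ≫ cpt e T m := by
    rw [← lift_ptH, ← comp_eq_ptH e (fst H T) m _ le_rfl, ← comp_lift, lift_fst_snd, Category.comp_id]
  rw [hR]
  simp only [Category.assoc]
  rw [h]

/-- Morphisms out of the product are given by their pieces. -/
theorem exists_hom_of_pieces (A G : Over S) (θ : M → (A ⟶ G)) : ∃ υ : H ⊗ A ⟶ G, ∀ m, cpt e A m ≫ υ = θ m := by
  let V : M → (H ⊗ A).left.Opens := fun m => locus e (fst H A) m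
  let k : ∀ m, Over.mk ((V m).ι ≫ (H ⊗ A).hom) ⟶ G := fun m => openRes (H ⊗ A) (V m) ≫ snd H A ≫ θ m
  have hsup : ⨆ m, V m = ⊤ := top_le_iff.mp fun t _ => TopologicalSpace.Opens.mem_iSup.mpr (mem_locus e (fst H A) t)
  let 𝒰 := (H ⊗ A).left.openCoverOfIsOpenCover V hsup
  have hcompat : ∀ m n, pullback.fst (V m).ι (V n).ι ≫ (k m).left = pullback.snd (V m).ι (V n).ι ≫ (k n).left := fun m n => by
    by_cases hmn : m = n
    · subst hmn
      rw [show pullback.fst (V m).ι (V m).ι = pullback.snd (V m).ι (V m).ι from by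
        rw [← cancel_mono (V m).ι, pullback.condition]]
    · haveI : IsEmpty ↑(pullback (V m).ι (V n).ι) := ⟨fun z => by
        have h1 : (V m).ι (pullback.fst (V m).ι (V n).ι z) = (V n).ι (pullback.snd (V m).ι (V n).ι z) := by
          rw [← Scheme.Hom.comp_apply, pullback.condition, Scheme.Hom.comp_apply]
        obtain ⟨a, ha⟩ := (pullback.fst (V m).ι (V n).ι z).2
        obtain ⟨b, hb⟩ := (pullback.snd (V m).ι (V n).ι z).2
        have h2 : Sigma.ι (fun _ : M => S) m a = Sigma.ι (fun _ : M => S) n b :=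
          ha.trans ((congrArg (fst H A ≫ e.hom).left.base h1).trans hb.symm)
        exact hmn (Sigma.mk.inj ((sigmaι_eq_iff _ _ _ _ _).mp h2)).1⟩
      exact isInitialOfIsEmpty.hom_ext _ _
  let υ : H ⊗ A ⟶ G := Over.homMk (𝒰.glueMorphisms (fun m => (k m).left) hcompat) (𝒰.hom_ext _ _ fun m => by
    show (V m).ι ≫ _ ≫ G.hom = (V m).ι ≫ (H ⊗ A).hom
    rw [← Category.assoc, show (V m).ι ≫ 𝒰.glueMorphisms (fun m => (k m).left) hcompat = (k m).left from
      𝒰.ι_glueMorphisms _ hcompat m, Over.w (k m)]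
    rfl)
  have hυ : ∀ m, openRes (H ⊗ A) (V m) ≫ υ = k m := fun m => Over.OverMorphism.ext (𝒰.ι_glueMorphisms _ hcompat m)
  refine ⟨υ, fun m => ?_⟩
  have hin : Set.range (cpt e A m).left ⊆ V m := by
    rintro _ ⟨z, rfl⟩
    refine ⟨A.hom z, ?_⟩
    have h1 : (cpt e A m ≫ fst H A ≫ e.hom).left = A.hom ≫ Sigma.ι (fun _ : M => S) m := by
      simp [cpt, ptH, TwC.pt]
    exact (congrArg (fun f : A.left ⟶ _ => f.base z) h1).symm
  let l : A ⟶ Over.mk ((V m).ι ≫ (H ⊗ A).hom) := Over.homMk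
    (IsOpenImmersion.lift (V m).ι (cpt e A m).left (fun w hw => ⟨⟨w, hin hw⟩, rfl⟩)) (by
      show _ ≫ (V m).ι ≫ (H ⊗ A).hom = A.hom
      rw [IsOpenImmersion.lift_fac_assoc, Over.w (cpt e A m)])
  have hl : l ≫ openRes (H ⊗ A) (V m) = cpt e A m := Over.OverMorphism.ext (IsOpenImmersion.lift_fac _ _ _)
  rw [← hl, Category.assoc, hυ]
  show l ≫ openRes (H ⊗ A) (V m) ≫ snd H A ≫ θ m = θ m
  rw [reassoc_of% hl, cpt, lift_snd_assoc, Category.id_comp]

variable [AddCommGroup M] [GrpObj H] (he : ∀ m n, ptH e m * ptH e n = ptH e (m + n))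

include he in
/-- Homomorphisms of a constant commutative group into a diagonalisable group, given the characters. -/
theorem exists_representsHom_const' (N : Type) [AddCommGroup N] (c : M →+ (N →+ M))
    (hN : ∀ (B : Type u) [CommMonoid B] (χ : M → (Multiplicative N →* B)), (∀ m n, χ (m + n) = χ m * χ n) →
      ∃! ψ : Multiplicative M →* B, ∀ m, ψ.comp (c m).toMultiplicative = χ m) :
    ∃ υ : H ⊗ Red.DS S M ⟶ Red.DS S N, AutFam.RepresentsHom H (Red.DS S N) (Red.DS S M) υ ∧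
      ∀ (X : Over S) (a b : X ⟶ Red.DS S M), (H ◁ (a * b)) ≫ υ = ((H ◁ a) ≫ υ) * ((H ◁ b) ≫ υ) := by
  obtain ⟨υ, hυ⟩ := exists_hom_of_pieces e (Red.DS S M) (Red.DS S N) fun m => Red.DSmap S (c m)
  haveI : ∀ m : M, IsMonHom (Red.DSmap S (c m)) := fun m => DSMapLib.isMonHom_DSmap S _
  have hwh : ∀ {T : Over S} (a : T ⟶ Red.DS S M) (m : M), cpt e T m ≫ (H ◁ a) ≫ υ = a ≫ Red.DSmap S (c m) := fun a m => by
    rw [← Category.assoc, ← cpt_comp, Category.assoc, hυ]
  have hfam : AutFam.IsHomFamily H (Red.DS S N) υ := fun Y g₁ g₂ t => by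
    refine hom_ext_opens (fun p : M × M => locus e g₁ p.1 ⊓ locus e g₂ p.2) (fun y => ?_) fun p => ?_
    · obtain ⟨m, hm⟩ := mem_locus e g₁ y
      obtain ⟨n, hn⟩ := mem_locus e g₂ y
      exact ⟨(m, n), hm, hn⟩
    · rw [MonObj.comp_mul, comp_lift_assoc, comp_lift_assoc, comp_lift_assoc, MonObj.comp_mul,
        comp_eq_ptH e g₁ p.1 _ inf_le_left, comp_eq_ptH e g₂ p.2 _ inf_le_right, ← MonObj.comp_mul, he,
        lift_ptH, lift_ptH, lift_ptH]
      simp only [Category.assoc, hυ]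
      rw [map_add, DSmap_add, MonObj.comp_mul, MonObj.comp_mul]
  refine ⟨υ, ⟨hfam, fun T φ hφ => represents_of_affine' υ (fun φ => AutFam.IsHomFamily H (Red.DS S N) φ)
    (fun t _ h => isHomFamily_comp t h) hfam (fun D q φ hφ => ?_) T φ hφ⟩, fun X a b => hom_ext_pieces e fun m => ?_⟩
  · let θ : M → (Over.mk q ⟶ Red.DS S N) := fun m => cpt e (Over.mk q) m ≫ φ
    have hθ : ∀ m n, θ (m + n) = θ m * θ n := fun m n => by
      show cpt e (Over.mk q) (m + n) ≫ φ = (cpt e (Over.mk q) m ≫ φ) * (cpt e (Over.mk q) n ≫ φ)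
      rw [cpt, ← he, MonObj.comp_mul]
      exact hφ _ _ _ _
    let χ : M → (Multiplicative N →* D) := fun m => (dsPt N q).symm (θ m)
    obtain ⟨ψ, hψ, hu⟩ := hN D χ fun m n =>
      (congrArg (dsPt N q).symm (hθ m n)).trans ((dsPt N q).symm.map_mul _ _)
    have key : ∀ (ψ' : Multiplicative M →* D) (m : M),
        dsPt M q ψ' ≫ Red.DSmap S (c m) = θ m ↔ ψ'.comp (c m).toMultiplicative = χ m := fun ψ' m => by
      rw [dsPt_comp]
      exact (dsPt N q).toEquiv.eq_symm_apply.symm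
    refine ⟨dsPt M q ψ, hom_ext_pieces e fun m => ?_, fun b hb => ?_⟩
    · rw [hwh]
      exact (key ψ m).2 (hψ m)
    · obtain ⟨ψ', rfl⟩ := (dsPt M q).surjective b
      congr 1
      refine hu ψ' fun m => (key ψ' m).1 ?_
      rw [← hwh]
      exact congrArg (cpt e _ _ ≫ ·) hb
  · rw [hwh, MonObj.comp_mul, hwh, hwh, MonObj.mul_comp]

include he in
/-- Homomorphisms of a constant commutative group into the multiplicative group form a diagonalisable group. -/
theorem exists_representsHom_const :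
    ∃ υ : H ⊗ Red.DS S M ⟶ Red.Gm S, AutFam.RepresentsHom H (Red.Gm S) (Red.DS S M) υ ∧
      ∀ (X : Over S) (a b : X ⟶ Red.DS S M), (H ◁ (a * b)) ≫ υ = ((H ◁ a) ≫ υ) * ((H ◁ b) ≫ υ) :=
  exists_representsHom_const' e he ℤ
    { toFun := fun m => zmultiplesHom M m
      map_zero' := AddMonoidHom.ext_int (by simp)
      map_add' := fun a b => AddMonoidHom.ext_int (by simp) }
    fun B _ χ hadd => ⟨
      { toFun := fun m => χ (Multiplicative.toAdd m) (Multiplicative.ofAdd 1)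
        map_one' := by
          show χ 0 _ = 1
          have h := DFunLike.congr_fun (hadd 0 0) (Multiplicative.ofAdd (1 : ℤ))
          rw [_root_.add_zero] at h
          exact ((Group.isUnit (Multiplicative.ofAdd (1 : ℤ))).map (χ 0)).mul_eq_left.1 h.symm
        map_mul' := fun m n => by
          show χ (Multiplicative.toAdd m + Multiplicative.toAdd n) _ = _
          rw [hadd]; rfl },
      fun m => MonoidHom.ext_mint (by simp), fun ψ hψ => MonoidHom.ext fun m => by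
        show ψ m = χ (Multiplicative.toAdd m) _
        rw [← hψ]
        simp⟩

/-- A constant chart with commuting points can be chosen commutative. -/
theorem exists_addCommGroup_chart {U : Scheme.{u}} {R : Over U} [GrpObj R] (hcomm : CommPts R)
    {M : Type} [Group M] (e : R ≅ TwC.const U M) (he : TwC.IsConstGrp M R e) :
    ∃ (N : Type) (_ : AddCommGroup N) (e' : R ≅ TwC.const U N), ∀ m n, ptH e' m * ptH e' n = ptH e' (m + n) := by
  rcases isEmpty_or_nonempty U with hU | ⟨⟨x⟩⟩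
  · haveI : IsEmpty R.left := Function.isEmpty R.hom
    haveI : IsEmpty (TwC.const U PUnit.{1}).left := Function.isEmpty (TwC.const U PUnit.{1}).hom
    refine ⟨PUnit.{1}, inferInstance, Over.isoMk ⟨(isInitialOfIsEmpty).to _, (isInitialOfIsEmpty).to _,
      isInitialOfIsEmpty.hom_ext _ _, isInitialOfIsEmpty.hom_ext _ _⟩ (isInitialOfIsEmpty.hom_ext _ _), fun m n => ?_⟩
    haveI : IsEmpty (𝟙_ (Over U)).left := hU
    exact Over.OverMorphism.ext (isInitialOfIsEmpty.hom_ext _ _)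
  · have hinj : ∀ m n : M, ptH e m = ptH e n → m = n := fun m n h => by
      have h' : TwC.pt U M m = TwC.pt U M n := by
        rw [← cancel_mono e.inv]; exact h
      have h2 : Sigma.ι (fun _ : M => U) m x = Sigma.ι (fun _ : M => U) n x :=
        congrArg (fun f : U ⟶ ∐ fun _ : M => U => f.base x) (congrArg CommaMorphism.left h')
      exact (Sigma.mk.inj ((sigmaι_eq_iff _ _ _ _ _).mp h2)).1
    have hc : ∀ m n : M, m * n = n * m := fun m n => hinj _ _ (by
      show TwC.pt U M (m * n) ≫ e.inv = TwC.pt U M (n * m) ≫ e.inv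
      rw [← he m n, ← he n m, hcomm])
    letI iC : CommGroup M := { (‹Group M› : Group M) with mul_comm := hc }
    letI iA : AddCommGroup (Additive M) := inferInstance
    exact ⟨Additive M, iA, e, fun m n => he (Additive.toMul m) (Additive.toMul n)⟩

/-- A multiplicative universal family stays multiplicative after changing the groups by isomorphisms. -/
theorem mul_of_iso {S : Scheme.{u}} {H H' G G' A : Over S} [GrpObj H] [GrpObj H'] [GrpObj G] [GrpObj G'] [GrpObj A]
    (eH : Grp.mk H ≅ Grp.mk H') (eG : Grp.mk G ≅ Grp.mk G') {υ : H' ⊗ A ⟶ G'}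
    (hm : ∀ (X : Over S) (a b : X ⟶ A), (H' ◁ (a * b)) ≫ υ = ((H' ◁ a) ≫ υ) * ((H' ◁ b) ≫ υ))
    (X : Over S) (a b : X ⟶ A) :
    (H ◁ (a * b)) ≫ (eH.hom.hom.hom ▷ A) ≫ υ ≫ eG.inv.hom.hom =
      ((H ◁ a) ≫ (eH.hom.hom.hom ▷ A) ≫ υ ≫ eG.inv.hom.hom) * ((H ◁ b) ≫ (eH.hom.hom.hom ▷ A) ≫ υ ≫ eG.inv.hom.hom) := by
  rw [whisker_exchange_assoc, whisker_exchange_assoc, whisker_exchange_assoc, ← MonObj.comp_mul,
    ← Category.assoc (H' ◁ (a * b)), hm, MonObj.mul_comp, Category.assoc, Category.assoc]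

/-- The comparison of two multiplicative schemes of homomorphisms is a homomorphism. -/
theorem isMonHom_comparison {S : Scheme.{u}} {H G A B : Over S} [GrpObj H] [GrpObj G] [GrpObj A] [GrpObj B]
    {υA : H ⊗ A ⟶ G} {υB : H ⊗ B ⟶ G}
    (hA : ∀ (X : Over S) (a b : X ⟶ A), (H ◁ (a * b)) ≫ υA = ((H ◁ a) ≫ υA) * ((H ◁ b) ≫ υA))
    (hB : AutFam.RepresentsHom H G B υB)
    (hBm : ∀ (X : Over S) (a b : X ⟶ B), (H ◁ (a * b)) ≫ υB = ((H ◁ a) ≫ υB) * ((H ◁ b) ≫ υB))
    (ε : A ⟶ B) (hε : (H ◁ ε) ≫ υB = υA) : IsMonHom ε := by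
  have hm : ∀ (T : Over S) (a b : T ⟶ A), (a * b) ≫ ε = (a ≫ ε) * (b ≫ ε) := fun T a b => by
    refine (hB.2 T _ (isHomFamily_comp ((a ≫ ε) * (b ≫ ε)) hB.1)).unique ?_ rfl
    rw [whiskerLeft_comp_assoc, hε, hA, hBm, whiskerLeft_comp_assoc, whiskerLeft_comp_assoc, hε]
  refine ⟨?_, ?_⟩
  · have h := hm (𝟙_ _) 1 1
    rw [_root_.mul_one, left_eq_mul] at h
    simpa [Hom.one_def, toUnit_unique (toUnit (𝟙_ (Over S))) (𝟙 _)] using h
  · rw [← Category.id_comp μ[A], ← lift_fst_snd, ← Hom.mul_def, hm, Hom.mul_def]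
    congr 1

/-- The chart of a multiplicative scheme of homomorphisms is an isomorphism of groups. -/
theorem grpIso_of_chart {S S' : Scheme.{u}} (f : S' ⟶ S) {H G D : Over S} [GrpObj H] [GrpObj G] [GrpObj D]
    {υ : H ⊗ D ⟶ G} (hD : AutFam.RepresentsHom H G D υ)
    (hmul : ∀ (X : Over S) (a b : X ⟶ D), (H ◁ (a * b)) ≫ υ = ((H ◁ a) ≫ υ) * ((H ◁ b) ≫ υ))
    {A G' : Over S'} [GrpObj A] [GrpObj G'] (eG : Grp.mk (Red.bc f G) ≅ Grp.mk G') {υc : Red.bc f H ⊗ A ⟶ G'}
    (hc : AutFam.RepresentsHom (Red.bc f H) G' A υc)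
    (hcm : ∀ (X : Over S') (a b : X ⟶ A),
      (Red.bc f H ◁ (a * b)) ≫ υc = ((Red.bc f H ◁ a) ≫ υc) * ((Red.bc f H ◁ b) ≫ υc)) :
    Nonempty (Grp.mk (Red.bc f D) ≅ Grp.mk A) := by
  obtain ⟨υ', hυ', hυ'f⟩ := exists_representsHom_bc f hD
  let E := Iso.refl (Grp.mk (Red.bc f H))
  obtain ⟨ε, hεA, -⟩ := exists_comparison hυ' (representsHom_of_iso E eG hc)
  haveI : IsMonHom ε.hom := isMonHom_comparison (fun T a b => bc_family_mul f hmul hυ'f T a b)
    (representsHom_of_iso E eG hc) (mul_of_iso E eG hcm) ε.hom hεA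
  exact ⟨Grp.mkIso' ε⟩

/-- The dual of a twisted constant commutative group is of multiplicative type. -/
theorem exists_dual_fpqc' (P : Type) [AddCommGroup P]
    (hconst : ∀ {U : Scheme.{u}} {M : Type} [AddCommGroup M] {H : Over U} [GrpObj H] (e : H ≅ TwC.const U M),
      (∀ m n, ptH e m * ptH e n = ptH e (m + n)) →
      ∃ υ : H ⊗ Red.DS U M ⟶ Red.DS U P, AutFam.RepresentsHom H (Red.DS U P) (Red.DS U M) υ ∧
        ∀ (X : Over U) (a b : X ⟶ Red.DS U M), (H ◁ (a * b)) ≫ υ = ((H ◁ a) ≫ υ) * ((H ◁ b) ≫ υ))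
    {S : Scheme.{u}} (R : Over S) [GrpObj R]
    (hR : TwC.Locally S TwC.Topology.fpqc (fun S' f => ∃ (M : Type) (_ : Group M) (e : Red.bc f R ≅ TwC.const S' M),
      TwC.IsConstGrp M (Red.bc f R) e))
    (hcomm : CommPts R) :
    ∃ (D : Over S) (_ : GrpObj D) (υ : R ⊗ D ⟶ Red.DS S P), AutFam.RepresentsHom R (Red.DS S P) D υ ∧
      (∀ (X : Over S) (r : X ⟶ R) (a b : X ⟶ D), lift r (a * b) ≫ υ = (lift r a ≫ υ) * (lift r b ≫ υ)) ∧
      TwC.Locally S TwC.Topology.fpqc (fun S' f => ∃ (M : Type) (_ : AddCommGroup M),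
        Nonempty (Grp.mk (Red.bc f D) ≅ Grp.mk (Red.DS S' M))) := by
  obtain ⟨S', π, hπf, hπs, hcov, hU⟩ := hR
  haveI := hπf; haveI := hπs
  haveI := SubDesc.isFpqc_of_hcov π hcov
  choose U hxU M₀ hM₀ e₀ he₀ using hU
  let g : ∀ x, (U x : Scheme.{u}) ⟶ S := fun x => (U x).ι ≫ π
  have hcomm' : ∀ x, CommPts (Red.bc (g x) R) := fun x X a b => by
    obtain ⟨a', rfl⟩ := ((Over.mapPullbackAdj (g x)).homEquiv X R).surjective a
    obtain ⟨b', rfl⟩ := ((Over.mapPullbackAdj (g x)).homEquiv X R).surjective b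
    exact (homEquiv_mul _ _ _).symm.trans ((congrArg _ (hcomm _ a' b')).trans (homEquiv_mul _ _ _))
  have hchart := fun x => (by
    letI := hM₀ x
    exact exists_addCommGroup_chart (hcomm' x) (e₀ x) (he₀ x) :
      ∃ (N : Type) (_ : AddCommGroup N) (e' : Red.bc (g x) R ≅ TwC.const (U x : Scheme.{u}) N),
        ∀ m n, ptH e' m * ptH e' n = ptH e' (m + n))
  choose N hN e he using hchart
  letI := hN
  choose υc hυc hυcm using fun x => hconst (e x) (he x)
  have hυ' := fun x => exists_repOn_of_representsHom (g x)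
    (representsHom_of_iso (Iso.refl (Grp.mk (Red.bc (g x) R))) (MaxTorus.dsBc (g x) P) (hυc x))
  choose υ hυ using hυ'
  obtain ⟨υA, hυA⟩ := exists_repOn_sigma g (fun x => Red.DS (U x : Scheme.{u}) (N x)) υ hυ
  haveI : SchDesc.IsFpqc (Limits.Sigma.desc g) := SchDesc.isFpqc_sigmaDesc (SubDesc.mem_refine π U hxU)
  obtain ⟨D, υD, hD, -⟩ := exists_representsHom hυA fun E hE => by
    haveI : IsAffineHom E.obj.hom := by
      rw [hE]
      exact SchDesc.prop_sigmaMap @IsAffineHom (fun x => (Red.DS (U x : Scheme.{u}) (N x)).hom) fun x =>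
        FixedSmooth.isAffineHom_DS _ _
    exact effective_of_isAffineHom E
  obtain ⟨iD, hmul⟩ := exists_grpObj (H := R) (G := Red.DS S P) (DS_comm (S := S) P) hD
  letI := iD
  refine ⟨D, iD, υD, hD, fun X r a b => ?_, S', π, hπf, hπs, hcov, fun x => ⟨U x, hxU x, N x, hN x, ?_⟩⟩
  · have h : ∀ c : X ⟶ D, lift r c ≫ υD = lift r (𝟙 X) ≫ (R ◁ c) ≫ υD := fun c => by
      rw [lift_whiskerLeft_assoc, Category.id_comp]
    rw [h, h, h, hmul, MonObj.comp_mul]
  · let eG := MaxTorus.dsBc (g x) P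
    exact grpIso_of_chart (g x) hD hmul eG (hυc x) (hυcm x)

/-- The dual of a twisted constant commutative group is of multiplicative type. -/
theorem exists_dual_fpqc {S : Scheme.{u}} (R : Over S) [GrpObj R]
    (hR : TwC.Locally S TwC.Topology.fpqc (fun S' f => ∃ (M : Type) (_ : Group M) (e : Red.bc f R ≅ TwC.const S' M),
      TwC.IsConstGrp M (Red.bc f R) e))
    (hcomm : CommPts R) :
    ∃ (D : Over S) (_ : GrpObj D) (υ : R ⊗ D ⟶ Red.Gm S), AutFam.RepresentsHom R (Red.Gm S) D υ ∧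
      (∀ (X : Over S) (r : X ⟶ R) (a b : X ⟶ D), lift r (a * b) ≫ υ = (lift r a ≫ υ) * (lift r b ≫ υ)) ∧
      TwC.Locally S TwC.Topology.fpqc (fun S' f => ∃ (M : Type) (_ : AddCommGroup M),
        Nonempty (Grp.mk (Red.bc f D) ≅ Grp.mk (Red.DS S' M))) :=
  exists_dual_fpqc' ℤ (fun e he => exists_representsHom_const e he) R hR hcomm

end Groth.Agent.HomRep
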