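import Groth.Agent.TwConst.Valuative
import Groth.Agent.TwConst.Fppf
import Groth.Agent.SplitHom.Alg
import Groth.Agent.MultClosed.Points
import Groth.Prelude.Def_AutFam
/-!
Homomorphisms of diagonalisable groups form a constant scheme.
-/

set_option autoImplicit false
set_option backward.isDefEq.respectTransparency false
set_option backward.isDefEq.respectTransparency.types false
set_option linter.style.haveILetI false

universe u

open CategoryTheory CategoryTheory.Limits MonoidalCategory CartesianMonoidalCategory MonObj AlgebraicGeometry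

noncomputable section

namespace Groth.Agent.HomRep

open DSMapLib FixedSmooth

variable {S : Scheme.{u}} {M N : Type} [AddCommGroup M] [AddCommGroup N]

/-- Restriction to an open set of parameters. -/
def openRes (T : Over S) (U : T.left.Opens) : Over.mk (U.ι ≫ T.hom) ⟶ T := Over.homMk U.ι rfl

theorem isPullback_whiskerLeft_left (H : Over S) {T' T : Over S} (c : T' ⟶ T) :
    IsPullback (H ◁ c).left (pullback.snd H.hom T'.hom) (pullback.snd H.hom T.hom) c.left := by
  refine IsPullback.of_right ?_ (congrArg CommaMorphism.left (whiskerLeft_snd H c)) (IsPullback.of_hasPullback _ _).flip.flip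
  have h1 : (H ◁ c).left ≫ pullback.fst H.hom _ = pullback.fst H.hom _ := congrArg CommaMorphism.left (whiskerLeft_fst H c)
  rw [h1, Over.w c]
  exact IsPullback.of_hasPullback _ _

/-- Equality of morphisms is local. -/
theorem hom_ext_opens {T Y : Over S} {κ : Type*} (U : κ → T.left.Opens) (hU : ∀ t : T.left, ∃ i, t ∈ U i)
    {f g : T ⟶ Y} (h : ∀ i, openRes T (U i) ≫ f = openRes T (U i) ≫ g) : f = g := by
  refine Over.OverMorphism.ext ((T.left.openCoverOfIsOpenCover U ?_).hom_ext _ _ fun i => congrArg CommaMorphism.left (h i))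
  exact top_le_iff.mp fun t _ => TopologicalSpace.Opens.mem_iSup.mpr (hU t)

/-- Equality of families is local on the parameters. -/
theorem fam_ext_opens {H G T : Over S} {κ : Type*} (U : κ → T.left.Opens) (hU : ∀ t : T.left, ∃ i, t ∈ U i)
    {f g : H ⊗ T ⟶ G} (h : ∀ i, (H ◁ openRes T (U i)) ≫ f = (H ◁ openRes T (U i)) ≫ g) : f = g := by
  refine hom_ext_opens (fun i => (snd H T).left ⁻¹ᵁ U i) (fun z => hU ((snd H T).left z)) fun i => ?_
  let R := openRes (H ⊗ T) ((snd H T).left ⁻¹ᵁ U i)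
  let k : Over.mk (((snd H T).left ⁻¹ᵁ U i).ι ≫ (H ⊗ T).hom) ⟶ Over.mk ((U i).ι ≫ T.hom) :=
    Over.homMk (IsOpenImmersion.lift (U i).ι ((R ≫ snd H T).left) (by
      rintro _ ⟨z, rfl⟩
      exact ⟨⟨_, z.2⟩, rfl⟩)) (by
      show IsOpenImmersion.lift (U i).ι _ _ ≫ (U i).ι ≫ T.hom = _
      rw [IsOpenImmersion.lift_fac_assoc, Over.w (R ≫ snd H T)])
  have hk : k ≫ openRes T (U i) = R ≫ snd H T := Over.OverMorphism.ext (IsOpenImmersion.lift_fac _ _ _)
  have hR : R = lift (R ≫ fst H T) k ≫ (H ◁ openRes T (U i)) := by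
    rw [lift_whiskerLeft, hk, ← comp_lift, lift_fst_snd, Category.comp_id]
  show R ≫ f = R ≫ g
  rw [hR, Category.assoc, Category.assoc, h i]

/-- A character group map is determined by the family it gives on one point with nonzero coordinate ring. -/
theorem eq_of_pt_DSmap_eq {T : Over S} (φ φ' : N →+ M) (K : CommRingCat.{u}) [Nontrivial K] (k : Spec K ⟶ T.left)
    (h : fst (Red.DS S M) T ≫ Red.DSmap S φ = fst (Red.DS S M) T ≫ Red.DSmap S φ') : φ = φ' := by
  let D : CommRingCat.{u} := CommRingCat.of (MonoidAlgebra K (Multiplicative M))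
  let c : K ⟶ D := CommRingCat.ofHom MonoidAlgebra.singleOneRingHom
  let w : Over.mk ((Spec.map c ≫ k) ≫ T.hom) ⟶ T := Over.homMk (Spec.map c ≫ k) rfl
  let x := dsPt (S := S) (B := D) M ((Spec.map c ≫ k) ≫ T.hom) (MonoidAlgebra.of K (Multiplicative M))
  have h' : x ≫ Red.DSmap S φ = x ≫ Red.DSmap S φ' := by
    have h1 := congrArg (lift x w ≫ ·) h
    simp only [lift_fst_assoc] at h1
    exact h1
  rw [dsPt_comp, dsPt_comp] at h'
  have h2 := (dsPt N _).injective h'
  refine AddMonoidHom.ext fun n => ?_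
  have h3 := DFunLike.congr_fun h2 (Multiplicative.ofAdd n)
  exact Multiplicative.ofAdd.injective (MonoidAlgebra.of_injective h3)

/-- A character group map is determined by the family it gives over a nonempty parameter scheme. -/
theorem eq_of_fst_DSmap_eq {T : Over S} (φ φ' : N →+ M) (t : T.left)
    (h : fst (Red.DS S M) T ≫ Red.DSmap S φ = fst (Red.DS S M) T ≫ Red.DSmap S φ') : φ = φ' := by
  haveI : Nontrivial (T.left.residueField t) := inferInstance
  exact eq_of_pt_DSmap_eq φ φ' (T.left.residueField t) (T.left.fromSpecResidueField t) h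

/-- Near every point a family of homomorphisms of diagonalisable groups is constant. -/
theorem exists_local_char [AddGroup.FG N] {T : Over S} (ψ : Red.DS S M ⊗ T ⟶ Red.DS S N)
    (hψ : AutFam.IsHomFamily _ _ ψ) (t : T.left) :
    ∃ U : T.left.Opens, t ∈ U ∧ ∃ φ : N →+ M,
      (Red.DS S M ◁ openRes T U) ≫ ψ = fst (Red.DS S M) _ ≫ Red.DSmap S φ := by
  obtain ⟨_, ⟨W : T.left.Opens, hW, rfl⟩, htW, -⟩ := T.left.isBasis_affineOpens.exists_subset_of_mem_open
    (Set.mem_univ t) isOpen_univ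
  let B := Γ(T.left, W)
  let b : Spec B ⟶ T.left := hW.fromSpec
  let w : ∀ {D : CommRingCat.{u}} (g : B ⟶ D), Over.mk (Spec.map g ≫ b ≫ T.hom) ⟶ T := fun g =>
    Over.homMk (Spec.map g ≫ b) (Category.assoc _ _ _)
  let Θ : ∀ {D : CommRingCat.{u}} (_ : B ⟶ D), (Multiplicative M →* D) → (Multiplicative N →* D) := fun g χ =>
    (dsPt N _).symm (lift (dsPt M _ χ) (w g) ≫ ψ)
  have hΘ : ∀ {D : CommRingCat.{u}} (g : B ⟶ D) χ,
      lift (dsPt M _ χ) (w g) ≫ ψ = dsPt N _ (Θ g χ) := fun g χ => (MulEquiv.apply_symm_apply _ _).symm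
  have hnat : ∀ {D E : CommRingCat.{u}} (g : B ⟶ D) (n : D ⟶ E) (χ : Multiplicative M →* D),
      Θ (g ≫ n) (n.hom.toMonoidHom.comp χ) = n.hom.toMonoidHom.comp (Θ g χ) := fun {D E} g n χ => by
    refine (dsPt N (Spec.map (g ≫ n) ≫ b ≫ T.hom)).injective (Over.OverMorphism.ext ?_)
    rw [← hΘ]
    have e : Spec.map n ≫ Spec.map g ≫ b ≫ T.hom = Spec.map (g ≫ n) ≫ b ≫ T.hom := by
      rw [Spec.map_comp, Category.assoc]
    refine Eq.trans ?_ (congrArg CommaMorphism.left (MultClosed.dsPt_nat _ _ n e (Θ g χ)))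
    rw [← hΘ]
    let r : Over.mk (Spec.map (g ≫ n) ≫ b ≫ T.hom) ⟶ Over.mk (Spec.map g ≫ b ≫ T.hom) := Over.homMk (Spec.map n) e
    have hr : r ≫ lift (dsPt M _ χ) (w g) = lift (dsPt M _ (n.hom.toMonoidHom.comp χ)) (w (g ≫ n)) := by
      rw [comp_lift]
      congr 1
      · exact MultClosed.dsPt_nat _ _ n e χ
      · exact Over.OverMorphism.ext (show Spec.map n ≫ Spec.map g ≫ b = Spec.map (g ≫ n) ≫ b by
          rw [Spec.map_comp, Category.assoc])
    rw [← hr]
    rfl
  have hmul : ∀ {D : CommRingCat.{u}} (g : B ⟶ D) (χ χ' : Multiplicative M →* D), Θ g (χ * χ') = Θ g χ * Θ g χ' :=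
    fun g χ χ' => (dsPt N _).injective (by
      rw [← hΘ, map_mul, map_mul, ← hΘ, ← hΘ]
      exact hψ _ _ _ _)
  have hone : ∀ {D : CommRingCat.{u}} (g : B ⟶ D), Θ g 1 = 1 := fun g => by
    have h := hmul g 1 1
    rw [_root_.mul_one] at h
    refine MonoidHom.ext fun n => ?_
    have hn : Θ g 1 n = Θ g 1 n * Θ g 1 n := DFunLike.congr_fun h n
    exact ((Group.isUnit (Multiplicative.toAdd n |> Multiplicative.ofAdd)).map (Θ g 1)).mul_eq_left.1 hn.symm
  let BM : CommRingCat.{u} := CommRingCat.of (MonoidAlgebra B (Multiplicative M))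
  let gc : B ⟶ BM := CommRingCat.ofHom MonoidAlgebra.singleOneRingHom
  let ev : Multiplicative M →* BM := MonoidAlgebra.of B (Multiplicative M)
  let Ψ : Multiplicative N →* MonoidAlgebra B (Multiplicative M) := Θ gc ev
  have hev : ∀ {D : CommRingCat.{u}} (g : B ⟶ D) (χ : Multiplicative M →* D),
      Θ g χ = (L g.hom χ).toMonoidHom.comp Ψ := fun {D} g χ => by
    have h := hnat gc (CommRingCat.ofHom (L g.hom χ) : BM ⟶ D) ev
    have e1 : gc ≫ (CommRingCat.ofHom (L g.hom χ) : BM ⟶ D) = g := CommRingCat.hom_ext (L_comp_single g.hom χ)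
    have e2 : (CommRingCat.ofHom (L g.hom χ) : BM ⟶ D).hom.toMonoidHom.comp ev = χ := MonoidHom.ext fun m => by
      show L g.hom χ (MonoidAlgebra.single m 1) = χ m
      simp
    rw [e1, e2] at h
    exact h
  have hGL : ∀ n, IsGL (Ψ n) := fun n => fun {B'} _ f χ χ' => by
    let g : B ⟶ CommRingCat.of B' := CommRingCat.ofHom f
    have h1 := DFunLike.congr_fun (hmul g χ χ') n
    have h2 := DFunLike.congr_fun (hone g) n
    rw [hev, hev, hev] at h1
    rw [hev] at h2
    exact ⟨h1, h2⟩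
  obtain ⟨f, φ, hf, hφ⟩ := SplitHom.exists_monomial Ψ hGL (hW.primeIdealOf ⟨t, htW⟩)
  let U : T.left.Opens := T.left.basicOpen f
  refine ⟨U, ?_, AddMonoidHom.mk' (fun n => Multiplicative.toAdd (φ (Multiplicative.ofAdd n))) (fun a b => (congrArg Multiplicative.toAdd ((congrArg φ (ofAdd_add a b)).trans (map_mul φ _ _))).trans (toAdd_mul _ _)), ?_⟩
  · have h := hW.fromSpec_preimage_basicOpen f
    have hm : (hW.primeIdealOf ⟨t, htW⟩) ∈ hW.fromSpec ⁻¹ᵁ T.left.basicOpen f := h.symm ▸ hf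
    show t ∈ T.left.basicOpen f
    have he := hW.fromSpec_primeIdealOf ⟨t, htW⟩
    exact (show hW.fromSpec (hW.primeIdealOf ⟨t, htW⟩) = t from he) ▸ hm
  · refine FixedSmooth.hom_ext_affine _ _ fun D q x => ?_
    let v : Spec D ⟶ T.left := (x ≫ snd _ _ ≫ openRes T U).left
    have hv : Set.range v ⊆ U := by
      rintro _ ⟨z, rfl⟩
      exact ((x ≫ snd (Red.DS S M) (Over.mk (U.ι ≫ T.hom))).left z).2
    obtain ⟨g, hg⟩ := Spec.map_surjective (IsOpenImmersion.lift b v (by
      rw [IsAffineOpen.range_fromSpec]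
      exact hv.trans (T.left.basicOpen_le f)))
    have hgv : Spec.map g ≫ b = v := by rw [hg]; exact IsOpenImmersion.lift_fac _ _ _
    have hunit : IsUnit (g.hom f) := by
      by_contra hnu
      obtain ⟨P, hP, hfP⟩ := exists_max_ideal_of_mem_nonunits hnu
      let z : Spec D := ⟨P, hP.isPrime⟩
      have hz : Spec.map g z ∈ hW.fromSpec ⁻¹ᵁ T.left.basicOpen f := by
        show b (Spec.map g z) ∈ T.left.basicOpen f
        rw [← Scheme.Hom.comp_apply, hgv]
        exact hv ⟨z, rfl⟩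
      rw [hW.fromSpec_preimage_basicOpen] at hz
      exact hz hfP
    have hq : q = Spec.map g ≫ b ≫ T.hom := by
      rw [reassoc_of% hgv]
      exact (Over.w (x ≫ snd _ _ ≫ openRes T U)).symm
    subst hq
    have hx1 : x ≫ snd _ _ ≫ openRes T U = w g := Over.OverMorphism.ext hgv.symm
    obtain ⟨χ, hχ⟩ := (dsPt M _).surjective (x ≫ fst _ _)
    have hx : x ≫ (Red.DS S M ◁ openRes T U) = lift (dsPt M _ χ) (w g) := by
      refine CartesianMonoidalCategory.hom_ext _ _ ?_ ?_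
      · simp [hχ]
      · simp [← hx1]
    rw [reassoc_of% hx]
    refine (hΘ g χ).trans ?_
    refine Eq.trans ?_ ((congrArg (fun z => z ≫ Red.DSmap S _) hχ).trans (Category.assoc _ _ _))
    refine Eq.trans ?_ (dsPt_comp _ _ _).symm
    rw [hev]
    congr 1
    refine MonoidHom.ext fun n => ?_
    show L g.hom χ (Ψ n) = χ (φ n)
    rw [show L g.hom χ (Ψ n) = L (RingHom.id D) χ (MonoidAlgebra.mapRingHom _ g.hom (Ψ n)) from by
      rw [← L_map, RingHom.id_comp], hφ g.hom hunit n]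
    simp


/-- Homomorphisms between diagonalisable groups are represented by a constant scheme. -/
theorem exists_representsHom_DS (S : Scheme.{u}) (M N : Type) [AddCommGroup M] [AddCommGroup N] [AddGroup.FG N]
    (I : Type u) (ρ : I ≃ (N →+ M)) :
    ∃ υ : Red.DS S M ⊗ TwC.const S I ⟶ Red.DS S N, AutFam.RepresentsHom _ _ (TwC.const S I) υ ∧
      ∀ i, (Red.DS S M ◁ TwC.pt S I i) ≫ υ = fst (Red.DS S M) (𝟙_ (Over S)) ≫ Red.DSmap S (ρ i) := by
  let H := Red.DS S M
  let A := TwC.const S I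
  let cι : ∀ i, 𝟙_ (Over S) ⟶ A := fun i => TwC.pt S I i
  -- the universal family
  let d : (∐ fun _ : I => S) ⟶ S := Sigma.desc fun _ => 𝟙 S
  haveI := TwConst.isIso_sigma_lift H.hom I
  let m : (∐ fun _ : I => H.left) ⟶ pullback d H.hom := Sigma.desc fun i : I => pullback.lift (f := Sigma.desc fun _ : I => 𝟙 S) (g := H.hom)
    (H.hom ≫ Sigma.ι (fun _ : I => S) i) (𝟙 H.left) (by simp)
  haveI : IsIso m := ‹_›
  let l : (∐ fun _ : I => H.left) ⟶ (H ⊗ A).left := m ≫ (pullbackSymmetry _ _).hom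
  haveI : IsIso l := inferInstanceAs (IsIso (m ≫ (pullbackSymmetry _ _).hom))
  have hl : ∀ i, Sigma.ι (fun _ : I => H.left) i ≫ l = (lift (𝟙 H) (toUnit H ≫ cι i)).left := fun i => by
    refine pullback.hom_ext (f := H.hom) (g := A.hom) ?_ ?_
    · refine Eq.trans ?_ (congrArg CommaMorphism.left (lift_fst (𝟙 H) (toUnit H ≫ cι i))).symm
      show (Sigma.ι (fun _ : I => H.left) i ≫ m ≫ (pullbackSymmetry d H.hom).hom) ≫ pullback.fst H.hom d = 𝟙 H.left
      simp [m, d]
    · refine Eq.trans ?_ (congrArg CommaMorphism.left (lift_snd (𝟙 H) (toUnit H ≫ cι i))).symm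
      show (Sigma.ι (fun _ : I => H.left) i ≫ m ≫ (pullbackSymmetry d H.hom).hom) ≫ pullback.snd H.hom d =
        H.hom ≫ Sigma.ι (fun _ : I => S) i
      simp [m, d]
  let υl : (H ⊗ A).left ⟶ (Red.DS S N).left := inv l ≫ Sigma.desc fun i => (Red.DSmap S (ρ i)).left
  have hυl : ∀ i, (lift (𝟙 H) (toUnit H ≫ cι i)).left ≫ υl = (Red.DSmap S (ρ i)).left := fun i => by
    rw [← hl]; simp [υl]
  let υ : H ⊗ A ⟶ Red.DS S N := Over.homMk υl (by
    rw [← cancel_epi l]
    refine Sigma.hom_ext _ _ fun i => ?_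
    rw [reassoc_of% (hl i), reassoc_of% (hl i), reassoc_of% (hυl i), Over.w (lift (𝟙 H) (toUnit H ≫ cι i)), Over.w (Red.DSmap S (ρ i))])
  have hυ : ∀ (i : I) (X : Over S) (g : X ⟶ H), lift g (toUnit X ≫ cι i) ≫ υ = g ≫ Red.DSmap S (ρ i) := fun i X g => by
    have h0 : lift (𝟙 H) (toUnit H ≫ cι i) ≫ υ = Red.DSmap S (ρ i) := Over.OverMorphism.ext (hυl i)
    rw [← h0, comp_lift_assoc, Category.comp_id, comp_toUnit_assoc]
  have hwhisk : ∀ (i : I) (T : Over S), (H ◁ (toUnit T ≫ cι i)) ≫ υ = fst H T ≫ Red.DSmap S (ρ i) := fun i T => by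
    rw [← hυ]
    congr 1
    refine CartesianMonoidalCategory.hom_ext _ _ (by simp) ?_
    simp only [whiskerLeft_snd, lift_snd]
    rw [← Category.assoc, comp_toUnit]
  -- morphisms into the constant scheme
  have hrange : ∀ {T : Over S} (a : T ⟶ A) (i : I), Set.range a.left ⊆ Set.range (Sigma.ι (fun _ : I => S) i) →
      a = toUnit T ≫ cι i := fun {T} a i h => by
    let l' := IsOpenImmersion.lift (Sigma.ι (fun _ : I => S) i) a.left h
    have hl' : l' ≫ Sigma.ι (fun _ : I => S) i = a.left := IsOpenImmersion.lift_fac _ _ _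
    have hl'' : l' = T.hom := by
      have h1 := Over.w a
      rw [← hl', Category.assoc] at h1
      simpa [A] using h1
    refine Over.OverMorphism.ext ?_
    rw [← hl', hl'']
    rfl
  have hpieces : ∀ {T : Over S} (a : T ⟶ A), ∀ t : T.left, ∃ i, t ∈ a.left ⁻¹ᵁ (Sigma.ι (fun _ : I => S) i).opensRange :=
    fun a t => by
      obtain ⟨⟨i, s⟩, hs⟩ := (sigmaMk fun _ : I => S).surjective (a.left t)
      rw [sigmaMk_mk] at hs
      exact ⟨i, s, hs⟩
  have hpiece : ∀ {T : Over S} (a : T ⟶ A) (i : I),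
      openRes T (a.left ⁻¹ᵁ (Sigma.ι (fun _ : I => S) i).opensRange) ≫ a = toUnit _ ≫ cι i := fun a i => by
    refine hrange _ i ?_
    rintro _ ⟨z, rfl⟩
    exact z.2
  refine ⟨υ, ⟨fun X g₁ g₂ y => ?_, fun T φ hφ => ?_⟩, fun i => ?_⟩
  rotate_right
  · have h := hwhisk i (𝟙_ (Over S))
    rwa [toUnit_unique (toUnit (𝟙_ (Over S))) (𝟙 _), Category.id_comp] at h
  · refine hom_ext_opens _ (hpieces y) fun i => ?_
    haveI := DSMapLib.isMonHom_DSmap S (ρ i)
    have hy := hpiece y i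
    rw [MonObj.comp_mul, comp_lift_assoc, comp_lift_assoc, comp_lift_assoc, hy, hυ, hυ, hυ, MonObj.comp_mul,
      MonObj.mul_comp]
  · choose U htU c hc using exists_local_char φ hφ
    let j : T.left → I := fun t => ρ.symm (c t)
    have hcong : ∀ t t' (z : T.left), z ∈ U t → z ∈ U t' → j t = j t' := fun t t' z hz hz' => by
      refine congrArg ρ.symm (eq_of_fst_DSmap_eq (T := Over.mk ((U t ⊓ U t').ι ≫ T.hom)) (c t) (c t') ⟨z, hz, hz'⟩ ?_)
      have key : ∀ (V : T.left.Opens) (hV : U t ⊓ U t' ≤ V) (φV : N →+ M),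
          (H ◁ openRes T V) ≫ φ = fst H _ ≫ Red.DSmap S φV →
          fst H (Over.mk ((U t ⊓ U t').ι ≫ T.hom)) ≫ Red.DSmap S φV = (H ◁ openRes T (U t ⊓ U t')) ≫ φ := by
        intro V hV φV h
        let k : Over.mk ((U t ⊓ U t').ι ≫ T.hom) ⟶ Over.mk (V.ι ≫ T.hom) := Over.homMk (T.left.homOfLE hV) (by simp)
        have hk : k ≫ openRes T V = openRes T (U t ⊓ U t') := Over.OverMorphism.ext (by simp [k, openRes])
        rw [← hk, whiskerLeft_comp_assoc, h, whiskerLeft_fst_assoc]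
      rw [key _ inf_le_left _ (hc t), key _ inf_le_right _ (hc t')]
    have hUi : ⨆ t, U t = ⊤ := top_le_iff.mp fun t _ => TopologicalSpace.Opens.mem_iSup.mpr ⟨t, htU t⟩
    let 𝒰 := T.left.openCoverOfIsOpenCover U hUi
    have hcompat : ∀ t t', pullback.fst (U t).ι (U t').ι ≫ (U t).ι ≫ T.hom ≫ Sigma.ι (fun _ : I => S) (j t) =
        pullback.snd (U t).ι (U t').ι ≫ (U t').ι ≫ T.hom ≫ Sigma.ι (fun _ : I => S) (j t') := fun t t' => by
      rcases isEmpty_or_nonempty ↑(pullback (U t).ι (U t').ι) with h | ⟨⟨z⟩⟩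
      · exact isInitialOfIsEmpty.hom_ext _ _
      · have h1 : (U t).ι (pullback.fst (U t).ι (U t').ι z) = (U t').ι (pullback.snd (U t).ι (U t').ι z) := by
          rw [← Scheme.Hom.comp_apply, pullback.condition, Scheme.Hom.comp_apply]
        rw [hcong t t' _ (pullback.fst (U t).ι (U t').ι z).2 (Set.mem_of_eq_of_mem h1 (pullback.snd (U t).ι (U t').ι z).2)]
        exact pullback.condition_assoc _
    obtain ⟨al, hal⟩ : ∃ al : T.left ⟶ A.left, ∀ t, (U t).ι ≫ al = (U t).ι ≫ T.hom ≫ Sigma.ι (fun _ : I => S) (j t) :=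
      ⟨𝒰.glueMorphisms (fun t => (U t).ι ≫ T.hom ≫ Sigma.ι (fun _ : I => S) (j t)) hcompat,
        fun t => 𝒰.ι_glueMorphisms _ hcompat t⟩
    have hal' : al ≫ A.hom = T.hom := 𝒰.hom_ext _ _ fun t => by
      show (U t).ι ≫ al ≫ A.hom = (U t).ι ≫ T.hom
      rw [← Category.assoc, hal t]
      simp [A]
    let a : T ⟶ A := Over.homMk al hal'
    have ha : ∀ t, openRes T (U t) ≫ a = toUnit _ ≫ cι (j t) := fun t => by
      refine Over.OverMorphism.ext ?_
      show (U t).ι ≫ al = ((U t).ι ≫ T.hom) ≫ Sigma.ι (fun _ : I => S) (j t)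
      rw [hal t, Category.assoc]
    refine ⟨a, fam_ext_opens U (fun t => ⟨t, htU t⟩) fun t => ?_, fun b hb => ?_⟩
    · rw [← whiskerLeft_comp_assoc, ha, hwhisk, hc, Equiv.apply_symm_apply]
    · refine hom_ext_opens U (fun t => ⟨t, htU t⟩) fun t => ?_
      rw [ha]
      refine hrange _ (j t) ?_
      rintro _ ⟨z, rfl⟩
      obtain ⟨i, hi⟩ := hpieces (openRes T (U t) ≫ b) z
      let V := (openRes T (U t) ≫ b).left ⁻¹ᵁ (Sigma.ι (fun _ : I => S) i).opensRange
      have h2 : fst H _ ≫ Red.DSmap S (ρ i) = fst H _ ≫ Red.DSmap S (c t) :=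
        calc fst H _ ≫ Red.DSmap S (ρ i)
            = (H ◁ (openRes (Over.mk ((U t).ι ≫ T.hom)) V ≫ openRes T (U t) ≫ b)) ≫ υ := by
              rw [hpiece, hwhisk]
          _ = (H ◁ openRes (Over.mk ((U t).ι ≫ T.hom)) V) ≫ (H ◁ openRes T (U t)) ≫ φ := by
              rw [whiskerLeft_comp_assoc, whiskerLeft_comp_assoc, hb]
          _ = fst H _ ≫ Red.DSmap S (c t) := by rw [hc, whiskerLeft_fst_assoc]
      have h3 := eq_of_fst_DSmap_eq (T := Over.mk (V.ι ≫ (U t).ι ≫ T.hom)) (ρ i) (c t) ⟨z, hi⟩ h2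
      have h4 : i = j t := by show i = ρ.symm (c t); rw [← h3, Equiv.symm_apply_apply]
      rw [← h4]
      exact hi

end Groth.Agent.HomRep
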