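import Groth.Agent.HomRep.Glue
import Groth.Agent.SchDesc.Imm
import Groth.Agent.HomRep.DS
/-!
Charts of representing schemes: base change, isomorphisms and disjoint unions.
-/

set_option autoImplicit false
set_option backward.isDefEq.respectTransparency false
set_option backward.isDefEq.respectTransparency.types false
set_option linter.style.haveILetI false

universe u

open CategoryTheory CategoryTheory.Limits MonoidalCategory CartesianMonoidalCategory MonObj GrpObj AlgebraicGeometry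

noncomputable section

namespace Groth.Agent.HomRep

variable {S : Scheme.{u}}

/-- Transport of a representing scheme along isomorphisms of groups. -/
theorem representsHom_of_iso {H H' G G' A : Over S} [GrpObj H] [GrpObj H'] [GrpObj G] [GrpObj G']
    (eH : Grp.mk H ≅ Grp.mk H') (eG : Grp.mk G ≅ Grp.mk G') {υ : H' ⊗ A ⟶ G'}
    (h : AutFam.RepresentsHom H' G' A υ) :
    AutFam.RepresentsHom H G A ((eH.hom.hom.hom ▷ A) ≫ υ ≫ eG.inv.hom.hom) := by
  haveI : IsIso eH.hom.hom.hom := ((Grp.forget _).mapIso eH).isIso_hom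
  haveI : IsIso eG.inv.hom.hom := ((Grp.forget _).mapIso eG).isIso_inv
  have hH : ∀ {X : Over S} (a b : X ⟶ H'), (a * b) ≫ eH.inv.hom.hom = (a ≫ eH.inv.hom.hom) * (b ≫ eH.inv.hom.hom) :=
    fun a b => MonObj.mul_comp a b _
  have hG1 : eG.inv.hom.hom ≫ eG.hom.hom.hom = 𝟙 G' := ((Grp.forget _).mapIso eG).inv_hom_id
  have hG2 : eG.hom.hom.hom ≫ eG.inv.hom.hom = 𝟙 G := ((Grp.forget _).mapIso eG).hom_inv_id
  have hH1 : eH.inv.hom.hom ≫ eH.hom.hom.hom = 𝟙 H' := ((Grp.forget _).mapIso eH).inv_hom_id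
  have hH2 : eH.hom.hom.hom ≫ eH.inv.hom.hom = 𝟙 H := ((Grp.forget _).mapIso eH).hom_inv_id
  refine ⟨fun X g₁ g₂ t => ?_, fun T φ hφ => ?_⟩
  · simp only [lift_whiskerRight_assoc, MonObj.mul_comp]
    rw [← Category.assoc, h.1, MonObj.mul_comp, Category.assoc, Category.assoc]
  · have hφ' : AutFam.IsHomFamily H' G' ((eH.inv.hom.hom ▷ T) ≫ φ ≫ eG.hom.hom.hom) := fun X g₁ g₂ t => by
      simp only [lift_whiskerRight_assoc, hH]
      rw [← Category.assoc, hφ, MonObj.mul_comp, Category.assoc, Category.assoc]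
    obtain ⟨a, ha, huniq⟩ := h.2 T _ hφ'
    refine ⟨a, ?_, fun b hb => huniq b ?_⟩
    · calc (H ◁ a) ≫ (eH.hom.hom.hom ▷ A) ≫ υ ≫ eG.inv.hom.hom
          = (eH.hom.hom.hom ▷ T) ≫ ((H' ◁ a) ≫ υ) ≫ eG.inv.hom.hom := by
            rw [whisker_exchange_assoc, Category.assoc]
        _ = φ := by
            rw [ha, Category.assoc, Category.assoc, hG2, Category.comp_id, ← comp_whiskerRight_assoc, hH2,
              id_whiskerRight, Category.id_comp]
    · rw [← hb, Category.assoc, Category.assoc, Category.assoc, hG1, Category.comp_id, ← whisker_exchange_assoc,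
        ← comp_whiskerRight_assoc, hH1, id_whiskerRight, Category.id_comp]

variable {S' : Scheme.{u}} (f : S' ⟶ S)

theorem homEquiv_mul {G : Over S} [GrpObj G] {T : Over S'} (a b : (Over.map f).obj T ⟶ G) :
    (Over.mapPullbackAdj f).homEquiv T G (a * b) =
      (Over.mapPullbackAdj f).homEquiv T G a * (Over.mapPullbackAdj f).homEquiv T G b := by
  simp only [Adjunction.homEquiv_unit]
  rw [Functor.map_mul, MonObj.comp_mul]

/-- The projection formula. -/
def proj (H : Over S) (T : Over S') : (Over.map f).obj (Red.bc f H ⊗ T) ⟶ H ⊗ (Over.map f).obj T :=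
  lift (((Over.mapPullbackAdj f).homEquiv _ _).symm (fst _ _)) ((Over.map f).map (snd _ _))

instance isIso_proj (H : Over S) (T : Over S') : IsIso (proj f H T) := by
  have h : (proj f H T).left = (pullbackLeftPullbackSndIso H.hom f T.hom).hom := by
    refine pullback.hom_ext (f := H.hom) (g := T.hom ≫ f) ?_ ?_
    · refine (congrArg CommaMorphism.left (lift_fst _ _ : proj f H T ≫ fst _ _ = _)).trans ?_
      rw [pullbackLeftPullbackSndIso_hom_fst, Adjunction.homEquiv_counit]
      rfl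
    · refine (congrArg CommaMorphism.left (lift_snd _ _ : proj f H T ≫ snd _ _ = _)).trans ?_
      rw [pullbackLeftPullbackSndIso_hom_snd]
      rfl
  haveI : IsIso (proj f H T).left := by rw [h]; infer_instance
  haveI : IsIso ((Over.forget S).map (proj f H T)) := ‹_›
  exact isIso_of_reflects_iso _ (Over.forget S)

theorem lift_proj {H : Over S} {T Y : Over S'} (g : Y ⟶ Red.bc f H) (t : Y ⟶ T) :
    (Over.map f).map (lift g t) ≫ proj f H T =
      lift (((Over.mapPullbackAdj f).homEquiv _ _).symm g) ((Over.map f).map t) := by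
  rw [proj, comp_lift, ← Functor.map_comp, lift_snd, ← Adjunction.homEquiv_naturality_left_symm, lift_fst]

theorem proj_natural {H : Over S} {T T' : Over S'} (a : T' ⟶ T) :
    (Over.map f).map (Red.bc f H ◁ a) ≫ proj f H T = proj f H T' ≫ (H ◁ (Over.map f).map a) := by
  rw [proj, comp_lift, ← Adjunction.homEquiv_naturality_left_symm, ← Functor.map_comp, whiskerLeft_fst,
    whiskerLeft_snd, Functor.map_comp, proj, lift_whiskerLeft]

/-- Every test object over the parameters comes from the chart. -/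
def overIso {T : Over S} {T₀ : Over S'} (y : T ⟶ (Over.map f).obj T₀) :
    T ≅ (Over.map f).obj (Over.mk (y.left ≫ T₀.hom)) :=
  Over.isoMk (Iso.refl _) (by
    show 𝟙 _ ≫ (y.left ≫ T₀.hom) ≫ f = T.hom
    rw [Category.id_comp, Category.assoc]; exact Over.w y)

variable {H G : Over S} [GrpObj H] [GrpObj G]

/-- Families over the chart. -/
theorem isHomFamily_iff {T : Over S'} (φ : H ⊗ (Over.map f).obj T ⟶ G) :
    AutFam.IsHomFamily H G φ ↔
      AutFam.IsHomFamily (Red.bc f H) (Red.bc f G) ((Over.mapPullbackAdj f).homEquiv _ _ (proj f H T ≫ φ)) := by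
  have key : ∀ {Y : Over S'} (g : Y ⟶ Red.bc f H) (t : Y ⟶ T),
      lift g t ≫ (Over.mapPullbackAdj f).homEquiv _ _ (proj f H T ≫ φ) =
        (Over.mapPullbackAdj f).homEquiv _ _
          (lift (((Over.mapPullbackAdj f).homEquiv _ _).symm g) ((Over.map f).map t) ≫ φ) := fun g t => by
    rw [← Adjunction.homEquiv_naturality_left, ← Category.assoc, lift_proj]
  constructor
  · intro h Y g₁ g₂ t
    rw [key, key, key, ← homEquiv_mul, ← h]
    congr 3
    rw [Equiv.symm_apply_eq, homEquiv_mul, Equiv.apply_symm_apply, Equiv.apply_symm_apply]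
  · intro h Y g₁ g₂ y
    let Y' : Over S' := Over.mk (y.left ≫ T.hom)
    let k := overIso f y
    let t : Y' ⟶ T := Over.homMk y.left rfl
    have hy : k.inv ≫ y = (Over.map f).map t := Over.OverMorphism.ext (Category.id_comp _)
    rw [← cancel_epi k.inv, MonObj.comp_mul, comp_lift_assoc, comp_lift_assoc, comp_lift_assoc, hy, MonObj.comp_mul]
    generalize k.inv ≫ g₁ = a
    generalize k.inv ≫ g₂ = b
    refine ((Over.mapPullbackAdj f).homEquiv _ _).injective ?_
    obtain ⟨a', rfl⟩ := ((Over.mapPullbackAdj f).homEquiv Y' H).symm.surjective a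
    obtain ⟨b', rfl⟩ := ((Over.mapPullbackAdj f).homEquiv Y' H).symm.surjective b
    rw [homEquiv_mul, ← key, ← key, ← h, key]
    congr 3
    rw [Equiv.eq_symm_apply, homEquiv_mul, Equiv.apply_symm_apply, Equiv.apply_symm_apply]

/-- A representing scheme over a chart gives a chart of the representing scheme. -/
theorem exists_repOn_of_representsHom {A : Over S'} {υ' : Red.bc f H ⊗ A ⟶ Red.bc f G}
    (h : AutFam.RepresentsHom (Red.bc f H) (Red.bc f G) A υ') :
    ∃ υ : H ⊗ (Over.map f).obj A ⟶ G, RepOn f A υ := by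
  let υ : H ⊗ (Over.map f).obj A ⟶ G := inv (proj f H A) ≫ ((Over.mapPullbackAdj f).homEquiv _ _).symm υ'
  have hυ : (Over.mapPullbackAdj f).homEquiv _ _ (proj f H A ≫ υ) = υ' := by
    rw [IsIso.hom_inv_id_assoc, Equiv.apply_symm_apply]
  refine ⟨υ, (isHomFamily_iff f υ).2 (by rw [hυ]; exact h.1), fun T x hx φ hφ => ?_⟩
  let T' : Over S' := Over.mk x
  let k : T ≅ (Over.map f).obj T' := Over.isoMk (Iso.refl _) (by
    show 𝟙 _ ≫ x ≫ f = T.hom
    rw [Category.id_comp, hx])
  let φ' : H ⊗ (Over.map f).obj T' ⟶ G := (H ◁ k.inv) ≫ φ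
  have hφ' := (isHomFamily_iff f φ').1 (isHomFamily_comp k.inv hφ)
  obtain ⟨a', ha', huniq⟩ := h.2 T' _ hφ'
  have hadj : ∀ c : T' ⟶ A, (Red.bc f H ◁ c) ≫ υ' = (Over.mapPullbackAdj f).homEquiv _ _ (proj f H T' ≫ (H ◁ (Over.map f).map c) ≫ υ) := fun c => by
    rw [← hυ, ← Adjunction.homEquiv_naturality_left, ← Category.assoc, proj_natural, Category.assoc]
  refine ⟨k.hom ≫ (Over.map f).map a', ⟨?_, ?_⟩, fun b hb => ?_⟩
  · show (𝟙 _ ≫ a'.left) ≫ A.hom = x
    rw [Category.id_comp, Over.w a']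
    rfl
  · have h2 := ha'
    rw [hadj] at h2
    have h3 := (cancel_epi (proj f H T')).1 (((Over.mapPullbackAdj f).homEquiv _ _).injective h2)
    rw [whiskerLeft_comp_assoc, h3, ← whiskerLeft_comp_assoc, Iso.hom_inv_id, whiskerLeft_id, Category.id_comp]
  · obtain ⟨hbx, hbφ⟩ := hb
    let c : T' ⟶ A := Over.homMk b.left hbx
    have hc : k.inv ≫ b = (Over.map f).map c := Over.OverMorphism.ext (Category.id_comp _)
    have hca : c = a' := huniq c (by
      show (Red.bc f H ◁ c) ≫ υ' = _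
      rw [hadj, ← hc, whiskerLeft_comp_assoc, hbφ])
    rw [← hca, ← hc, Iso.hom_inv_id_assoc]

/-- A disjoint union of charts is a chart. -/
theorem exists_repOn_sigma {I : Type u} {X : I → Scheme.{u}} (p : ∀ i, X i ⟶ S) (A : ∀ i, Over (X i))
    (υ : ∀ i, H ⊗ (Over.map (p i)).obj (A i) ⟶ G) (h : ∀ i, RepOn (p i) (A i) (υ i)) :
    ∃ υA : H ⊗ (Over.map (Limits.Sigma.desc p)).obj (Over.mk (Limits.Sigma.map fun i => (A i).hom)) ⟶ G,
      RepOn (Limits.Sigma.desc p) (Over.mk (Limits.Sigma.map fun i => (A i).hom)) υA := by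
  let AA : Over (∐ X) := Over.mk (Limits.Sigma.map fun i => (A i).hom)
  let P : Over S := (Over.map (Limits.Sigma.desc p)).obj AA
  let AT : (∐ fun i => (A i).left) ⟶ ∐ X := Limits.Sigma.map fun i => (A i).hom
  let c : ∀ i, (Over.map (p i)).obj (A i) ⟶ P := fun i => Over.homMk (Sigma.ι (fun i => (A i).left) i) (by
    show Sigma.ι (fun i => (A i).left) i ≫ AT ≫ Limits.Sigma.desc p = (A i).hom ≫ p i
    rw [Limits.Sigma.ι_map_assoc, Sigma.ι_desc])
  let l : (∐ fun i => (H ⊗ (Over.map (p i)).obj (A i)).left) ⟶ (H ⊗ P).left :=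
    Limits.Sigma.desc fun i => (H ◁ c i).left
  haveI hci : ∀ i, IsOpenImmersion (H ◁ c i).left := fun i => by
    haveI : IsOpenImmersion (c i).left := inferInstanceAs (IsOpenImmersion (Sigma.ι (fun i => (A i).left) i))
    exact MorphismProperty.of_isPullback (isPullback_whiskerLeft_left H (c i)).flip inferInstance
  have hsnd : ∀ i z, (snd H P).left ((H ◁ c i).left z) = Sigma.ι (fun i => (A i).left) i ((snd H _).left z) := fun i z => by
    show ((H ◁ c i) ≫ snd H P).left z = _
    rw [whiskerLeft_snd]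
    rfl
  haveI : IsIso l := by
    haveI : IsOpenImmersion l := isOpenImmersion_sigmaDesc _ _ fun i j hij => by
      refine Set.disjoint_left.mpr ?_
      rintro z ⟨a, rfl⟩ ⟨b, hb⟩
      have h := congrArg (fun z => (snd H P).left z) hb
      dsimp only at h
      rw [hsnd, hsnd] at h
      exact hij ((Sigma.mk.inj ((sigmaι_eq_iff _ _ _ _ _).mp h)).1).symm
    haveI : Surjective l := ⟨fun z => by
      obtain ⟨⟨i, a⟩, ha⟩ := (sigmaMk fun i => (A i).left).surjective ((snd H P).left z)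
      rw [sigmaMk_mk] at ha
      obtain ⟨y, hy, -⟩ := Scheme.exists_preimage_of_isPullback (isPullback_whiskerLeft_left H (c i)) z a ha.symm
      exact ⟨Sigma.ι (fun i => (H ⊗ (Over.map (p i)).obj (A i)).left) i y, by
        rw [← Scheme.Hom.comp_apply, Sigma.ι_desc, hy]⟩⟩
    rw [isIso_iff_isOpenImmersion_and_epi_base]
    exact ⟨inferInstance, (TopCat.epi_iff_surjective _).mpr l.surjective⟩
  let υl : (H ⊗ P).left ⟶ G.left := inv l ≫ Limits.Sigma.desc fun i => (υ i).left
  have hυl : ∀ i, (H ◁ c i).left ≫ υl = (υ i).left := fun i => by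
    rw [show (H ◁ c i).left = Sigma.ι (fun i => (H ⊗ (Over.map (p i)).obj (A i)).left) i ≫ l from (Sigma.ι_desc (fun i => (H ◁ c i).left) i).symm]
    simp [υl]
  let υA : H ⊗ P ⟶ G := Over.homMk υl (by
    rw [← cancel_epi l]
    refine Sigma.hom_ext _ _ fun i => ?_
    simp only [l, Sigma.ι_desc_assoc]
    rw [reassoc_of% (hυl i), Over.w (υ i), Over.w (H ◁ c i)])
  have hυA : ∀ i, (H ◁ c i) ≫ υA = υ i := fun i => Over.OverMorphism.ext (hυl i)
  -- points in one component
  have hlift : ∀ {T : Over S} (i : I) (x : T.left ⟶ X i) (b : T ⟶ P),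
      b.left ≫ AT = x ≫ Sigma.ι X i →
        ∃ b' : T ⟶ (Over.map (p i)).obj (A i), b'.left ≫ (A i).hom = x ∧ b' ≫ c i = b := fun {T} i x b hb => by
    let sq : IsPullback (Sigma.ι (fun i => (A i).left) i) (A i).hom AT (Sigma.ι X i) :=
      SchDesc.isPullback_sigmaMap (fun i => (A i).hom) i
    refine ⟨Over.homMk (sq.lift b.left x hb) ?_, sq.lift_snd _ _ _, Over.OverMorphism.ext (sq.lift_fst _ _ _)⟩
    show sq.lift b.left x hb ≫ (A i).hom ≫ p i = T.hom
    have h1 : b.left ≫ AT ≫ Limits.Sigma.desc p = T.hom := Over.w b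
    rw [← h1, sq.lift_snd_assoc, reassoc_of% hb, Sigma.ι_desc]
  refine ⟨υA, fun Y g₁ g₂ y => ?_, fun T x hx φ hφ => ?_⟩
  · refine hom_ext_opens (fun i => y.left ⁻¹ᵁ (Sigma.ι (fun i => (A i).left) i).opensRange) (fun t => ?_) fun i => ?_
    · obtain ⟨⟨i, a⟩, ha⟩ := (sigmaMk fun i => (A i).left).surjective (y.left t)
      rw [sigmaMk_mk] at ha
      exact ⟨i, a, ha⟩
    · let R := openRes Y (y.left ⁻¹ᵁ (Sigma.ι (fun i => (A i).left) i).opensRange)
      let y' : _ ⟶ (Over.map (p i)).obj (A i) := Over.homMk (IsOpenImmersion.lift (Sigma.ι (fun i => (A i).left) i) (R ≫ y).left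
        (by rintro _ ⟨z, rfl⟩; exact z.2)) (by
          show IsOpenImmersion.lift _ _ _ ≫ (A i).hom ≫ p i = _
          rw [← Sigma.ι_desc p i, ← Limits.Sigma.ι_map_assoc (fun i => (A i).hom) i]
          rw [IsOpenImmersion.lift_fac_assoc]
          exact Over.w (R ≫ y))
      have hy : R ≫ y = y' ≫ c i := Over.OverMorphism.ext (IsOpenImmersion.lift_fac _ _ _).symm
      show R ≫ _ = R ≫ _
      rw [MonObj.comp_mul, comp_lift_assoc, comp_lift_assoc, comp_lift_assoc, hy, MonObj.comp_mul]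
      simp only [← lift_whiskerLeft_assoc, hυA]
      exact (h i).1 _ _ _ _
  · let U : I → T.left.Opens := fun i => x ⁻¹ᵁ (Sigma.ι X i).opensRange
    have hU : ∀ t, ∃ i, t ∈ U i := fun t => by
      obtain ⟨⟨i, a⟩, ha⟩ := (sigmaMk X).surjective (x t)
      rw [sigmaMk_mk] at ha
      exact ⟨i, a, ha⟩
    let x' : ∀ i, (U i : Scheme.{u}) ⟶ X i := fun i => IsOpenImmersion.lift (Sigma.ι X i) ((U i).ι ≫ x)
      (by rintro _ ⟨z, rfl⟩; exact z.2)
    have hx' : ∀ i, x' i ≫ Sigma.ι X i = (U i).ι ≫ x := fun i => IsOpenImmersion.lift_fac _ _ _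
    have hx'p : ∀ i, x' i ≫ p i = (Over.mk ((U i).ι ≫ T.hom)).hom := fun i => by
      show x' i ≫ p i = (U i).ι ≫ T.hom
      rw [← Sigma.ι_desc p i, reassoc_of% (hx' i), hx]
    choose ai hai using fun i => (h i).2 _ (x' i) (hx'p i) _ (isHomFamily_comp (openRes T (U i)) hφ)
    have hUi : ⨆ i, U i = ⊤ := top_le_iff.mp fun t _ => TopologicalSpace.Opens.mem_iSup.mpr (hU t)
    let 𝒰 := T.left.openCoverOfIsOpenCover U hUi
    have hcompat : ∀ i j, pullback.fst (U i).ι (U j).ι ≫ (ai i).left ≫ Sigma.ι (fun i => (A i).left) i =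
        pullback.snd (U i).ι (U j).ι ≫ (ai j).left ≫ Sigma.ι (fun i => (A i).left) j := fun i j => by
      rcases isEmpty_or_nonempty ↑(pullback (U i).ι (U j).ι) with h | ⟨⟨z⟩⟩
      · exact isInitialOfIsEmpty.hom_ext _ _
      · have hz : ((U i).ι ≫ x) (pullback.fst (U i).ι (U j).ι z) = ((U j).ι ≫ x) (pullback.snd (U i).ι (U j).ι z) := by
          simp only [← Scheme.Hom.comp_apply]
          rw [pullback.condition_assoc]
        rw [← hx', ← hx', Scheme.Hom.comp_apply, Scheme.Hom.comp_apply] at hz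
        obtain rfl : i = j := (Sigma.mk.inj ((sigmaι_eq_iff _ _ _ _ _).mp hz)).1
        rw [(cancel_mono (U i).ι).1 pullback.condition]
    obtain ⟨al, hal⟩ : ∃ al : T.left ⟶ P.left, ∀ i, (U i).ι ≫ al = (ai i).left ≫ Sigma.ι (fun i => (A i).left) i :=
      ⟨𝒰.glueMorphisms (fun i => (ai i).left ≫ Sigma.ι (fun i => (A i).left) i) hcompat,
        fun i => 𝒰.ι_glueMorphisms _ hcompat i⟩
    have hax : al ≫ AT = x := 𝒰.hom_ext _ _ fun i => by
      show (U i).ι ≫ al ≫ AT = (U i).ι ≫ x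
      rw [reassoc_of% (hal i), Limits.Sigma.ι_map, ← hx', reassoc_of% (hai i).1.1]
    let a : T ⟶ P := Over.homMk al (((Category.assoc al AT (Limits.Sigma.desc p)).symm.trans (congrArg (· ≫ Limits.Sigma.desc p) hax)).trans hx)
    have ha : ∀ i, openRes T (U i) ≫ a = ai i ≫ c i := fun i => Over.OverMorphism.ext (hal i)
    refine ⟨a, ⟨hax, fam_ext_opens U hU fun i => ?_⟩, fun b hb => hom_ext_opens U hU fun i => ?_⟩
    · rw [← whiskerLeft_comp_assoc, ha, whiskerLeft_comp_assoc, hυA, (hai i).1.2]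
    · obtain ⟨hbx, hbφ⟩ := hb
      obtain ⟨b', hb'x, hb'⟩ := hlift i (x' i) (openRes T (U i) ≫ b) (by
        show ((U i).ι ≫ b.left) ≫ AT = x' i ≫ Sigma.ι X i
        rw [Category.assoc, show b.left ≫ AT = x from hbx, hx'])
      rw [ha, ← hb']
      congr 1
      refine (hai i).2 b' ⟨hb'x, ?_⟩
      rw [← hυA, ← whiskerLeft_comp_assoc, hb', whiskerLeft_comp_assoc, hbφ]

end Groth.Agent.HomRep
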