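import Groth.Agent.HomRep.Quasi
import Groth.Agent.MultKer.Descend
import Groth.Agent.MultBridge.Sub
import Groth.Agent.FpqcDesc.Basic
import Groth.Agent.TwConst.Basic
import Groth.Agent.FEtLib.Split
import Groth.Agent.S5266
/-!
Groups of multiplicative type and of finite type are quasi-isotrivial; finiteness of their homomorphisms.
-/

set_option autoImplicit false
set_option backward.isDefEq.respectTransparency false
set_option backward.isDefEq.respectTransparency.types false
set_option linter.style.haveILetI false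

universe u

open CategoryTheory CategoryTheory.Limits MonoidalCategory CartesianMonoidalCategory MonObj GrpObj AlgebraicGeometry TensorProduct
open scoped TensorProduct

noncomputable section

namespace Groth.Agent.HomRep

open TorusField

variable {S : Scheme.{u}}

/-- Groups of multiplicative type and finite type split etale-locally. -/
theorem locally_etale_of_isMultTypeFT {H : Over S} [GrpObj H] (hH : SGA3x.IsMultTypeFT H) :
    TwC.Locally S TwC.Topology.etale (fun S' f => ∃ (M : Type) (_ : AddCommGroup M),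
      AddGroup.FG M ∧ Nonempty (Grp.mk (Red.bc f H) ≅ Grp.mk (Red.DS S' M))) := by
  intro s
  haveI : IsAffineHom H.hom :=
    FixedSmooth.isAffineHom_of_isMultTypeLoc (WeilClosedLib.IsMultTypeLoc.of_isMultTypeFT hH)
  haveI : LocallyOfFinitePresentation H.hom := FixedSmooth.locallyOfFinitePresentation_of_isMultTypeFT hH
  haveI : Flat H.hom := MultKer.flat_hom_of_isMultTypeFT hH
  obtain ⟨V, hV, hsV, -⟩ := exists_isAffineOpen_mem_and_subset (x := s) (U := ⊤) trivial
  obtain ⟨R, _, g, hg, hs⟩ : ∃ (R : Type u) (_ : CommRing R) (g : Spec (CommRingCat.of R) ⟶ S),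
      IsOpenImmersion g ∧ s ∈ Set.range g :=
    ⟨Γ(S, V), inferInstance, hV.fromSpec, inferInstance, (Set.ext_iff.1 hV.range_fromSpec s).2 hsV⟩
  obtain ⟨p, hp⟩ := hs
  haveI : IsAffineHom (Red.bc g H).hom := inferInstanceAs (IsAffineHom (pullback.snd H.hom g))
  obtain ⟨A, _, _, ⟨eA⟩⟩ := MultBridge.exists_hopf R (Red.bc g H)
  haveI hAfp : Algebra.FinitePresentation R A := by
    have h := MultBridge.prop_algebraMap eA @LocallyOfFinitePresentation
      (inferInstanceAs (LocallyOfFinitePresentation (pullback.snd H.hom g)))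
    rw [HasRingHomProperty.Spec_iff (P := @LocallyOfFinitePresentation)] at h
    exact RingHom.finitePresentation_algebraMap.1 h
  haveI hAfl : Module.Flat R A := by
    have h := MultBridge.prop_algebraMap eA @Flat (inferInstanceAs (Flat (pullback.snd H.hom g)))
    rw [HasRingHomProperty.Spec_iff (P := @Flat)] at h
    exact RingHom.flat_algebraMap_iff.1 h
  haveI : Algebra.FiniteType R A := inferInstance
  obtain ⟨B, _, _, P, _, _, _, hd⟩ := MultBridge.exists_flat_split eA hH p.asIdeal
  obtain ⟨E, _, _, Q, hE, hQp, hQ, hdE⟩ :=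
    MultBridge.exists_etale_split_of_quot (BialgHom.id R A) (fun a => ⟨a, rfl⟩) p.asIdeal B P hd
  haveI := hE
  let c := Spec.map (CommRingCat.ofHom (algebraMap R E))
  haveI : Etale c := HasRingHomProperty.Spec_iff.mpr (RingHom.etale_algebraMap.mpr hE)
  haveI : Nontrivial E := ⟨0, 1, fun h => hQp.ne_top ((Ideal.eq_top_iff_one Q).2 (h ▸ Q.zero_mem))⟩
  refine ⟨Spec (CommRingCat.of E), c ≫ g, inferInstance, ⟨(⟨Q, hQp⟩ : PrimeSpectrum E), ?_⟩,
    MultBridge.split_of_isDiag eA E hdE rfl⟩
  show g (c (⟨Q, hQp⟩ : PrimeSpectrum E)) = s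
  rw [show c (⟨Q, hQp⟩ : PrimeSpectrum E) = p from PrimeSpectrum.ext hQ, hp]

/-- A finite diagonalisable group over a nonempty base has finite character group. -/
theorem finite_of_isFinite_DS {T : Scheme.{u}} (t : T) (M : Type) [AddCommGroup M] [IsFinite (Red.DS T M).hom] :
    Finite M := by
  let K : CommRingCat.{u} := T.residueField t
  let c : Spec (CommRingCat.of K) ⟶ T := T.fromSpecResidueField t
  haveI : IsFinite (Red.bc c (Red.DS T M)).hom := inferInstanceAs (IsFinite (pullback.snd (Red.DS T M).hom c))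
  have h := FixedSmooth.hom_of_grpIso (A := (specGrp K (MonoidAlgebra K (Multiplicative M))).X) (B := Red.bc c (Red.DS T M))
    ((dsIso K M).symm ≪≫ (MaxTorus.dsBc c M).symm) @IsFinite ‹_›
  have h' : IsFinite (Spec.map (CommRingCat.ofHom (algebraMap K (MonoidAlgebra K (Multiplicative M))))) := h
  rw [IsFinite.SpecMap_iff] at h'
  haveI : Module.Finite K (MonoidAlgebra K (Multiplicative M)) := RingHom.finite_algebraMap.mp h'
  haveI : Nontrivial K := inferInstance
  haveI : Finite (Multiplicative M) := Module.Finite.finite_basis (MonoidAlgebra.basis (Multiplicative M) K)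
  exact Finite.of_equiv _ Multiplicative.toAdd

/-- Homomorphisms of finite groups of multiplicative type form a finite etale scheme. -/
theorem exists_representsHom_finite (G H : Over S) [GrpObj G] [GrpObj H]
    (hG : SGA3x.IsMultTypeFT G) [IsFinite G.hom] (hH : SGA3x.IsMultTypeFT H) [IsFinite H.hom] :
    ∃ (A : Over S) (υ : G ⊗ A ⟶ H), AutFam.RepresentsHom G H A υ ∧ IsFinite A.hom ∧ Etale A.hom := by
  have hG' := locally_etale_of_isMultTypeFT hG
  have hH' := locally_etale_of_isMultTypeFT hH
  obtain ⟨A, υ, hA, htw, hfin⟩ := exists_representsHom_quasi' G H (fun s => by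
    obtain ⟨S', f, hf, hs, M, _, -, e⟩ := hG' s
    exact ⟨S', f, hf, hs, M, inferInstance, e⟩) hH'
  have htw' := TwConst.isTwConst_fpqc_of_etale htw
  haveI : QuasiCompact A.hom := TwConst.quasiCompact_of_finite_charts A fun s => by
    obtain ⟨S', f, hf, hs, M, N, _, _, hM, hN, ⟨e⟩⟩ := hfin s
    refine ⟨S', f, hf, hs, _, ?_, ⟨e⟩⟩
    rcases isEmpty_or_nonempty S' with hE | ⟨⟨t⟩⟩
    · exact .inl hE
    · refine .inr ?_
      haveI : IsFinite (Red.bc f G).hom := inferInstanceAs (IsFinite (pullback.snd G.hom f))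
      haveI : IsFinite (Red.bc f H).hom := inferInstanceAs (IsFinite (pullback.snd H.hom f))
      obtain ⟨eM⟩ := hM
      obtain ⟨eN⟩ := hN
      haveI := FixedSmooth.hom_of_grpIso (A := Red.DS S' M) (B := Red.bc f G) eM.symm @IsFinite ‹_›
      haveI := FixedSmooth.hom_of_grpIso (A := Red.DS S' N) (B := Red.bc f H) eN.symm @IsFinite ‹_›
      haveI := finite_of_isFinite_DS t M
      haveI := finite_of_isFinite_DS t N
      haveI : Finite (N →+ M) := Finite.of_injective (fun φ : N →+ M => (φ : N → M)) DFunLike.coe_injective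
      infer_instance
  haveI : IsClosedImmersion (𝟙 A.left) := inferInstance
  haveI : QuasiCompact (𝟙 A.left ≫ A.hom) := by rw [Category.id_comp]; infer_instance
  have h := Groth.Agent.S5266.result A htw' (𝟙 A.left)
  rw [Category.id_comp] at h
  exact ⟨A, υ, hA, h, TwConst.etale_of_isTwConst A htw'⟩

end Groth.Agent.HomRep
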