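import Groth.Prelude.Def_AutFam
import Groth.Prelude.Def_Desc
import Groth.Agent.SchDesc.Cover
/-!
Representing functors of homomorphisms: descent along fpqc coverings.
-/

set_option autoImplicit false
set_option backward.isDefEq.respectTransparency false
set_option backward.isDefEq.respectTransparency.types false
set_option linter.style.haveILetI false

universe u

open CategoryTheory CategoryTheory.Limits MonoidalCategory CartesianMonoidalCategory MonObj GrpObj AlgebraicGeometry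

noncomputable section

namespace Groth.Agent.HomRep

variable {S : Scheme.{u}} {H G : Over S} [GrpObj H] [GrpObj G]

/-- Restriction of a family of homomorphisms along a morphism of parameters. -/
theorem isHomFamily_comp {T' T : Over S} (t : T' ⟶ T) {φ : H ⊗ T ⟶ G} (h : AutFam.IsHomFamily H G φ) :
    AutFam.IsHomFamily H G ((H ◁ t) ≫ φ) := by
  intro Y g₁ g₂ y
  simp only [lift_whiskerLeft_assoc]
  exact h Y g₁ g₂ (y ≫ t)

/-- A scheme over a base `X → S` representing the homomorphisms between `H` and `G`. -/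
def RepOn {X : Scheme.{u}} (p : X ⟶ S) (A : Over X) (υ : H ⊗ (Over.map p).obj A ⟶ G) : Prop :=
  AutFam.IsHomFamily H G υ ∧ ∀ (T : Over S) (x : T.left ⟶ X), x ≫ p = T.hom →
    ∀ φ : H ⊗ T ⟶ G, AutFam.IsHomFamily H G φ →
      ∃! a : T ⟶ (Over.map p).obj A, a.left ≫ A.hom = x ∧ (H ◁ a) ≫ υ = φ

variable {X : Scheme.{u}} {p : X ⟶ S} {A : Over X} {υ : H ⊗ (Over.map p).obj A ⟶ G}

/-- The translate of a point of the representing scheme. -/
def translate (hA : RepOn p A υ) {T : Over S} (a : T ⟶ (Over.map p).obj A) (x : T.left ⟶ X) (hx : x ≫ p = T.hom) :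
    T ⟶ (Over.map p).obj A :=
  (hA.2 T x hx _ (isHomFamily_comp a hA.1)).choose

theorem translate_hom (hA : RepOn p A υ) {T : Over S} (a : T ⟶ (Over.map p).obj A) (x : T.left ⟶ X)
    (hx : x ≫ p = T.hom) : (translate hA a x hx).left ≫ A.hom = x :=
  (hA.2 T x hx _ (isHomFamily_comp a hA.1)).choose_spec.1.1

theorem translate_fam (hA : RepOn p A υ) {T : Over S} (a : T ⟶ (Over.map p).obj A) (x : T.left ⟶ X)
    (hx : x ≫ p = T.hom) : (H ◁ translate hA a x hx) ≫ υ = (H ◁ a) ≫ υ :=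
  (hA.2 T x hx _ (isHomFamily_comp a hA.1)).choose_spec.1.2

theorem RepOn.ext (hA : RepOn p A υ) {T : Over S} {a b : T ⟶ (Over.map p).obj A}
    (h₁ : a.left ≫ A.hom = b.left ≫ A.hom) (h₂ : (H ◁ a) ≫ υ = (H ◁ b) ≫ υ) : a = b := by
  have hb : (b.left ≫ A.hom) ≫ p = T.hom := (Category.assoc _ _ _).trans (Over.w b)
  exact (hA.2 T _ hb _ (isHomFamily_comp b hA.1)).unique ⟨h₁, h₂⟩ ⟨rfl, rfl⟩

/-- The point of the base change over a point. -/
def ptOf {T : Scheme.{u}} {x₀ : T ⟶ X} (q : T ⟶ S) (hq : x₀ ≫ p = q) (v : _root_.Desc.Lifts A x₀) :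
    Over.mk q ⟶ (Over.map p).obj A :=
  Over.homMk v.1 (by show v.1 ≫ A.hom ≫ p = q; rw [← Category.assoc, v.2, hq])

/-- The descent datum of a representing scheme. -/
def datum (hA : RepOn p A υ) : _root_.Desc.SchDD p where
  obj := A
  φ T x₀ x₁ h :=
    { toFun := fun v => ⟨(translate hA (ptOf (x₀ ≫ p) rfl v) x₁ h.symm).left, translate_hom hA _ _ _⟩
      invFun := fun w => ⟨(translate hA (ptOf (x₀ ≫ p) h.symm w) x₀ rfl).left, translate_hom hA _ _ _⟩
      left_inv := fun v => by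
        refine Subtype.ext (congrArg CommaMorphism.left (RepOn.ext hA ?_ ?_ :
          translate hA (ptOf (x₀ ≫ p) h.symm
            ⟨(translate hA (ptOf (x₀ ≫ p) rfl v) x₁ h.symm).left, translate_hom hA _ _ _⟩) x₀ rfl = ptOf (x₀ ≫ p) rfl v))
        · exact (translate_hom hA _ _ _).trans v.2.symm
        · exact (translate_fam hA _ _ _).trans (translate_fam hA (ptOf (x₀ ≫ p) rfl v) x₁ h.symm)
      right_inv := fun w => by
        refine Subtype.ext (congrArg CommaMorphism.left (RepOn.ext hA ?_ ?_ :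
          translate hA (ptOf (x₀ ≫ p) rfl
            ⟨(translate hA (ptOf (x₀ ≫ p) h.symm w) x₀ rfl).left, translate_hom hA _ _ _⟩) x₁ h.symm = ptOf (x₀ ≫ p) h.symm w))
        · exact (translate_hom hA _ _ _).trans w.2.symm
        · exact (translate_fam hA _ _ _).trans (translate_fam hA (ptOf (x₀ ≫ p) h.symm w) x₀ rfl) }
  φ_natural T T' g x₀ x₁ h h' v v' hv' := by
    let gm : Over.mk ((g ≫ x₀) ≫ p) ⟶ Over.mk (x₀ ≫ p) := Over.homMk g (Category.assoc _ _ _).symm
    refine congrArg CommaMorphism.left (RepOn.ext hA ?_ ?_ :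
      translate hA (ptOf ((g ≫ x₀) ≫ p) rfl v') (g ≫ x₁) h'.symm = gm ≫ translate hA (ptOf (x₀ ≫ p) rfl v) x₁ h.symm)
    · refine (translate_hom hA _ _ _).trans ?_
      exact ((Category.assoc g _ A.hom).trans (congrArg (g ≫ ·) (translate_hom hA _ _ _))).symm
    · rw [translate_fam, whiskerLeft_comp_assoc, translate_fam, ← whiskerLeft_comp_assoc]
      congr 2
      exact Over.OverMorphism.ext hv'
  φ_self T x v := by
    refine Subtype.ext (congrArg CommaMorphism.left (RepOn.ext hA ?_ ?_ :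
      translate hA (ptOf (x ≫ p) rfl v) x rfl = ptOf (x ≫ p) rfl v))
    · exact (translate_hom hA _ _ _).trans v.2.symm
    · exact translate_fam hA _ _ _
  φ_comp T x₀ x₁ x₂ h₀₁ h₁₂ v := by
    refine Subtype.ext ?_
    let v₁ : _root_.Desc.Lifts A x₁ := ⟨(translate hA (ptOf (x₀ ≫ p) rfl v) x₁ h₀₁.symm).left, translate_hom hA _ _ _⟩
    have key : ∀ (q : T ⟶ S) (h₁ : x₁ ≫ p = q) (h₂ : x₂ ≫ p = q), (translate hA (ptOf (x₁ ≫ p) rfl v₁) x₂ h₁₂.symm).left =
        (translate hA (ptOf q h₁ v₁) x₂ h₂).left := by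
      intro q h₁ h₂; subst h₁; rfl
    show (translate hA (ptOf (x₁ ≫ p) rfl v₁) x₂ h₁₂.symm).left = _
    rw [key (x₀ ≫ p) h₀₁.symm (h₀₁.trans h₁₂).symm]
    refine congrArg CommaMorphism.left (RepOn.ext hA ?_ ?_ :
      translate hA (ptOf (x₀ ≫ p) h₀₁.symm v₁) x₂ (h₀₁.trans h₁₂).symm =
        translate hA (ptOf (x₀ ≫ p) rfl v) x₂ (h₀₁.trans h₁₂).symm)
    · exact (translate_hom hA _ _ _).trans (translate_hom hA (ptOf (x₀ ≫ p) rfl v) x₂ (h₀₁.trans h₁₂).symm).symm
    · rw [translate_fam, translate_fam]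
      exact translate_fam hA (ptOf (x₀ ≫ p) rfl v) x₁ h₀₁.symm

/-- Glueing a representing scheme along an fpqc covering. -/
theorem exists_representsHom (hA : RepOn p A υ) [SchDesc.IsFpqc p]
    (heff : ∀ D : _root_.Desc.SchDD p, D.obj = A → ∃ U : Over S, Nonempty ((_root_.Desc.toDD p).obj U ≅ D)) :
    ∃ (U : Over S) (υU : H ⊗ U ⟶ G), AutFam.RepresentsHom H G U υU ∧
      ∃ q : A.left ⟶ U.left, IsPullback q A.hom U.hom p := by
  obtain ⟨U, ⟨e⟩⟩ := heff (datum hA) rfl
  let eh : pullback p U.hom ⟶ A.left := e.hom.hom.left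
  let ei : A.left ⟶ pullback p U.hom := e.inv.hom.left
  have he₁ : eh ≫ ei = 𝟙 _ := congrArg (fun f => f.hom.left) e.hom_inv_id
  have he₂ : ei ≫ eh = 𝟙 _ := congrArg (fun f => f.hom.left) e.inv_hom_id
  have hei : ei ≫ pullback.fst p U.hom = A.hom := Over.w e.inv.hom
  haveI : IsIso ei := ⟨eh, he₂, he₁⟩
  let q : A.left ⟶ U.left := ei ≫ pullback.snd p U.hom
  have hq : IsPullback q A.hom U.hom p :=
    (IsPullback.of_hasPullback p U.hom).flip.of_iso (asIso ei).symm (Iso.refl _) (Iso.refl _) (Iso.refl _)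
      (by simp [q]) (by simp [← hei]) (by simp) (by simp)
  let π : (Over.map p).obj A ⟶ U := Over.homMk q hq.w
  -- two points have the same image iff they define the same family
  have key : ∀ {T : Over S} (a b : T ⟶ (Over.map p).obj A),
      a ≫ π = b ≫ π ↔ (H ◁ a) ≫ υ = (H ◁ b) ≫ υ := by
    intro T a b
    have hb : (b.left ≫ A.hom) ≫ p = T.hom := (Category.assoc _ _ _).trans (Over.w b)
    have ha : (a.left ≫ A.hom) ≫ p = T.hom := (Category.assoc _ _ _).trans (Over.w a)
    let x₀ := a.left ≫ A.hom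
    let x₁ := b.left ≫ A.hom
    have hx : x₀ ≫ p = x₁ ≫ p := ha.trans hb.symm
    let v : _root_.Desc.Lifts A x₀ := ⟨a.left, rfl⟩
    let w : _root_.Desc.Lifts ((_root_.Desc.toDD p).obj U).obj x₀ := ⟨a.left ≫ ei,
      (Category.assoc _ _ _).trans (congrArg (a.left ≫ ·) hei)⟩
    have hcomm := e.inv.comm x₀ x₁ hx v w rfl
    let t : T ⟶ (Over.map p).obj A := translate hA a x₁ hb
    have ht : ((datum hA).φ x₀ x₁ hx v).1 = t.left := by
      have : ∀ (r : T.left ⟶ S) (h₁ : x₀ ≫ p = r) (h₂ : x₁ ≫ p = r), ((datum hA).φ x₀ x₁ hx v).1 =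
          (translate hA (ptOf r h₁ v) x₁ h₂).left := by
        intro r h₁ h₂; subst h₁; rfl
      exact this T.hom ha hb
    have htq : t.left ≫ q = a.left ≫ q := by
      have h := congrArg (· ≫ pullback.snd p U.hom) hcomm
      rw [ht] at h
      refine ((Category.assoc _ _ _).symm.trans h.symm).trans ?_
      exact (pullback.lift_snd _ _ _).trans (Category.assoc _ _ _)
    constructor
    · intro h
      have htb : t = b := Over.OverMorphism.ext (hq.hom_ext
        (htq.trans (congrArg CommaMorphism.left h)) (translate_hom hA _ _ _))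
      rw [← translate_fam hA a x₁ hb]
      exact congrArg (fun c => (H ◁ c) ≫ υ) htb
    · intro h
      have htb : t = b := RepOn.ext hA (translate_hom hA _ _ _) ((translate_fam hA _ _ _).trans h)
      refine Over.OverMorphism.ext ?_
      show a.left ≫ q = b.left ≫ q
      rw [← htq, htb]
  -- the universal family
  haveI hπ : SchDesc.IsFpqc π.left := SchDesc.IsFpqc.of_isPullback hq.flip
  have hwhisk : ∀ {T' T : Over S} (c : T' ⟶ T), IsPullback (H ◁ c).left (pullback.snd H.hom T'.hom)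
      (pullback.snd H.hom T.hom) c.left := fun c => by
    refine IsPullback.of_right ?_ (congrArg CommaMorphism.left (whiskerLeft_snd H c)) (IsPullback.of_hasPullback _ _).flip.flip
    have h1 : (H ◁ c).left ≫ pullback.fst H.hom _ = pullback.fst H.hom _ := congrArg CommaMorphism.left (whiskerLeft_fst H c)
    rw [h1, Over.w c]
    exact IsPullback.of_hasPullback _ _
  have hfp : ∀ {T' T : Over S} (c : T' ⟶ T), SchDesc.IsFpqc c.left → SchDesc.IsFpqc (H ◁ c).left := fun c hc =>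
    SchDesc.IsFpqc.of_isPullback (hwhisk c).flip
  haveI := hfp π hπ
  have hd : ∀ {R : Scheme.{u}} (r r' : R ⟶ (H ⊗ (Over.map p).obj A).left),
      r ≫ (H ◁ π).left = r' ≫ (H ◁ π).left → r ≫ υ.left = r' ≫ υ.left := by
    intro R r r' h
    let RO : Over S := Over.mk (r ≫ (H ⊗ (Over.map p).obj A).hom)
    have h' : r' ≫ (H ⊗ (Over.map p).obj A).hom = r ≫ (H ⊗ (Over.map p).obj A).hom := by
      rw [← Over.w (H ◁ π), reassoc_of% h]
    let rm : RO ⟶ H ⊗ (Over.map p).obj A := Over.homMk r rfl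
    let rm' : RO ⟶ H ⊗ (Over.map p).obj A := Over.homMk r' h'
    have hm : rm ≫ (H ◁ π) = rm' ≫ (H ◁ π) := Over.OverMorphism.ext h
    have h1 : rm ≫ fst _ _ = rm' ≫ fst _ _ := by
      simpa using congrArg (· ≫ fst _ _) hm
    have h2 : (rm ≫ snd _ _) ≫ π = (rm' ≫ snd _ _) ≫ π := by
      simpa using congrArg (· ≫ snd _ _) hm
    have h3 : lift (rm ≫ fst _ _) (𝟙 RO) ≫ (H ◁ (rm ≫ snd _ _)) ≫ υ =
        lift (rm' ≫ fst _ _) (𝟙 RO) ≫ (H ◁ (rm' ≫ snd _ _)) ≫ υ := by rw [h1, (key _ _).1 h2]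
    simp only [lift_whiskerLeft_assoc, Category.id_comp, ← comp_lift, lift_fst_snd, Category.comp_id] at h3
    exact congrArg CommaMorphism.left h3
  let υl : (H ⊗ U).left ⟶ G.left := EffectiveEpi.desc (H ◁ π).left υ.left (fun {R} r r' h => hd r r' h)
  have hυl : (H ◁ π).left ≫ υl = υ.left := EffectiveEpi.fac _ _ _
  let υU : H ⊗ U ⟶ G := Over.homMk υl (by
    rw [← cancel_epi (H ◁ π).left, reassoc_of% hυl, Over.w υ, Over.w (H ◁ π)])
  have hυU : (H ◁ π) ≫ υU = υ := Over.OverMorphism.ext hυl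
  refine ⟨U, υU, ⟨?_, ?_⟩, q, hq⟩
  · intro Y g₁ g₂ y
    let Y' : Over S := Over.mk (pullback.fst y.left q ≫ Y.hom)
    let c : Y' ⟶ Y := Over.homMk (pullback.fst y.left q) rfl
    let a : Y' ⟶ (Over.map p).obj A := Over.homMk (pullback.snd y.left q) (by
      show pullback.snd y.left q ≫ A.hom ≫ p = pullback.fst y.left q ≫ Y.hom
      rw [← hq.w, ← pullback.condition_assoc, Over.w y])
    have hca : c ≫ y = a ≫ π := Over.OverMorphism.ext pullback.condition
    haveI : SchDesc.IsFpqc c.left := SchDesc.IsFpqc.of_isPullback (IsPullback.of_hasPullback y.left π.left).flip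
    haveI : Epi c.left := inferInstance
    refine Over.OverMorphism.ext ((cancel_epi c.left).1 (congrArg CommaMorphism.left (?_ :
      c ≫ (lift (g₁ * g₂) y ≫ υU) = c ≫ ((lift g₁ y ≫ υU) * (lift g₂ y ≫ υU)))))
    have hl : ∀ g : Y ⟶ H, c ≫ lift g y ≫ υU = lift (c ≫ g) a ≫ υ := fun g => by
      rw [← hυU, lift_whiskerLeft_assoc, comp_lift_assoc, hca]
    rw [MonObj.comp_mul, hl, hl, hl, MonObj.comp_mul]
    exact hA.1 Y' (c ≫ g₁) (c ≫ g₂) a
  · intro T φ hφ
    let T' : Over S := Over.mk (pullback.fst T.hom p ≫ T.hom)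
    let c : T' ⟶ T := Over.homMk (pullback.fst T.hom p) rfl
    have hx : pullback.snd T.hom p ≫ p = T'.hom := pullback.condition.symm
    obtain ⟨a', ⟨ha'x, ha'⟩, -⟩ := hA.2 T' _ hx _ (isHomFamily_comp c hφ)
    haveI : SchDesc.IsFpqc c.left := SchDesc.IsFpqc.of_isPullback (IsPullback.of_hasPullback T.hom p).flip
    haveI := hfp c ‹_›
    have hdesc : ∀ {R : Scheme.{u}} (r r' : R ⟶ T'.left), r ≫ c.left = r' ≫ c.left →
        r ≫ (a' ≫ π).left = r' ≫ (a' ≫ π).left := by
      intro R r r' h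
      let RO : Over S := Over.mk (r ≫ T'.hom)
      have h' : r' ≫ T'.hom = r ≫ T'.hom := by rw [← Over.w c, reassoc_of% h]
      let rm : RO ⟶ T' := Over.homMk r rfl
      let rm' : RO ⟶ T' := Over.homMk r' h'
      have hm : rm ≫ c = rm' ≫ c := Over.OverMorphism.ext h
      have h4 := (key (rm ≫ a') (rm' ≫ a')).2 (by
        simp only [whiskerLeft_comp, Category.assoc, ha']
        rw [← whiskerLeft_comp_assoc, hm, whiskerLeft_comp_assoc])
      exact congrArg CommaMorphism.left (((Category.assoc _ _ _).symm.trans h4).trans (Category.assoc _ _ _) :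
        rm ≫ a' ≫ π = rm' ≫ a' ≫ π)
    let al : T.left ⟶ U.left := EffectiveEpi.desc c.left (a' ≫ π).left (fun {R} r r' h => hdesc r r' h)
    have hal : c.left ≫ al = (a' ≫ π).left := EffectiveEpi.fac _ _ _
    let a : T ⟶ U := Over.homMk al (by rw [← cancel_epi c.left, reassoc_of% hal, Over.w (a' ≫ π), Over.w c])
    have hca : c ≫ a = a' ≫ π := Over.OverMorphism.ext hal
    haveI : Epi (H ◁ c).left := inferInstance
    refine ⟨a, ?_, fun b hb => ?_⟩
    · refine Over.OverMorphism.ext ((cancel_epi (H ◁ c).left).1 (congrArg CommaMorphism.left (?_ :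
        (H ◁ c) ≫ (H ◁ a) ≫ υU = (H ◁ c) ≫ φ)))
      rw [← whiskerLeft_comp_assoc, hca, whiskerLeft_comp_assoc, hυU, ha']
    · have hbx : (c ≫ b).left ≫ U.hom = pullback.snd T.hom p ≫ p := by rw [Over.w (c ≫ b)]; exact hx.symm
      let b' : T' ⟶ (Over.map p).obj A := Over.homMk (hq.lift (c ≫ b).left (pullback.snd T.hom p) hbx) (by
        show hq.lift (c ≫ b).left (pullback.snd T.hom p) hbx ≫ A.hom ≫ p = T'.hom
        rw [hq.lift_snd_assoc]; exact hx)
      have hb'π : b' ≫ π = c ≫ b := Over.OverMorphism.ext (hq.lift_fst _ _ _)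
      have hb' : b' = a' := RepOn.ext hA ((hq.lift_snd _ _ _).trans ha'x.symm) (by
        rw [ha', ← hb, ← whiskerLeft_comp_assoc, ← hb'π, whiskerLeft_comp_assoc, hυU])
      refine Over.OverMorphism.ext ((cancel_epi c.left).1 (congrArg CommaMorphism.left (?_ : c ≫ b = c ≫ a)))
      rw [hca, ← hb'π, hb']

end Groth.Agent.HomRep
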