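import Groth.Agent.HomRep.Weil
import Groth.Agent.HomRep.Local
import Groth.Agent.HomRep.Glue
import Groth.Agent.WeilClosedLib.Finite
import Groth.Agent.WeilClosedLib.Equalizer
import Groth.Agent.WeilClosedLib.Factors
import Groth.Agent.S4101
import Groth.Agent.SchDesc.Effective
import Groth.Agent.SchDesc.QAff
import Groth.Agent.SchDesc.Local
/-!
Homomorphisms from a finite locally free group into an affine group are representable by an affine scheme.
-/

set_option autoImplicit false
set_option backward.isDefEq.respectTransparency false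
set_option backward.isDefEq.respectTransparency.types false
set_option linter.style.haveILetI false

universe u

open CategoryTheory CategoryTheory.Limits MonoidalCategory CartesianMonoidalCategory MonObj AlgebraicGeometry TensorProduct

noncomputable section

namespace Groth.Agent.HomRep

/-- An affine descent datum along an fpqc covering is effective. -/
theorem effective_of_isAffineHom {X S : Scheme.{u}} {p : X ⟶ S} [SchDesc.IsFpqc p] (D : _root_.Desc.SchDD p)
    [IsAffineHom D.obj.hom] : ∃ U : Over S, Nonempty ((_root_.Desc.toDD p).obj U ≅ D) := by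
  obtain ⟨Q⟩ := SchDesc.quot_top_of_affine @IsAffineHom (fun f g hf => MorphismProperty.pullback_snd f g hf) D ‹_›
    fun Q U l q i hQ hU _ _ _ _ _ _ D' hD' => by
      haveI : IsAffineHom D'.obj.hom := hD'
      haveI : IsAffine D'.obj.left := isAffine_of_isAffineHom D'.obj.hom
      exact SchDesc.quot_of_quasiAffine D'
  exact Q.effective

/-- Weil restriction of an affine scheme along a finite locally free one. -/
theorem exists_weilRes (R : Type u) [CommRing R] (H G : Over (Spec (CommRingCat.of R)))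
    [IsFinite H.hom] [Flat H.hom] [LocallyOfFinitePresentation H.hom] [IsAffineHom G.hom] :
    ∃ (W : Over (Spec (CommRingCat.of R))) (ev : H ⊗ W ⟶ G), IsAffineHom W.hom ∧
      (LocallyOfFiniteType G.hom → LocallyOfFiniteType W.hom) ∧
      (LocallyOfFinitePresentation G.hom → LocallyOfFinitePresentation W.hom) ∧
      ∀ (T : Over (Spec (CommRingCat.of R))) (φ : H ⊗ T ⟶ G), ∃! a : T ⟶ W, (H ◁ a) ≫ ev = φ := by
  haveI : IsAffine H.left := isAffine_of_isAffineHom H.hom
  haveI : IsAffine G.left := isAffine_of_isAffineHom G.hom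
  let fH := Spec.preimage (H.left.isoSpec.inv ≫ H.hom)
  let fG := Spec.preimage (G.left.isoSpec.inv ≫ G.hom)
  letI : Algebra R Γ(H.left, ⊤) := fH.hom.toAlgebra
  letI : Algebra R Γ(G.left, ⊤) := fG.hom.toAlgebra
  have hH : Spec.map (CommRingCat.ofHom (algebraMap R Γ(H.left, ⊤))) = H.left.isoSpec.inv ≫ H.hom := Spec.map_preimage _
  have hG : Spec.map (CommRingCat.ofHom (algebraMap R Γ(G.left, ⊤))) = G.left.isoSpec.inv ≫ G.hom := Spec.map_preimage _
  let eH : Over.mk (Spec.map (CommRingCat.ofHom (algebraMap R Γ(H.left, ⊤)))) ≅ H :=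
    Over.isoMk H.left.isoSpec.symm hH.symm
  let eG : Over.mk (Spec.map (CommRingCat.ofHom (algebraMap R Γ(G.left, ⊤)))) ≅ G :=
    Over.isoMk G.left.isoSpec.symm hG.symm
  haveI : Module.Finite R Γ(H.left, ⊤) := by
    have h : IsFinite (Spec.map (CommRingCat.ofHom (algebraMap R Γ(H.left, ⊤)))) := by rw [hH]; infer_instance
    rw [IsFinite.SpecMap_iff] at h
    exact RingHom.finite_algebraMap.1 h
  haveI : Module.Flat R Γ(H.left, ⊤) := by
    have h : Flat (Spec.map (CommRingCat.ofHom (algebraMap R Γ(H.left, ⊤)))) := by rw [hH]; infer_instance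
    rw [HasRingHomProperty.Spec_iff (P := @Flat)] at h
    exact RingHom.flat_algebraMap_iff.1 h
  haveI : Algebra.FinitePresentation R Γ(H.left, ⊤) := by
    have h : LocallyOfFinitePresentation (Spec.map (CommRingCat.ofHom (algebraMap R Γ(H.left, ⊤)))) := by rw [hH]; infer_instance
    rw [HasRingHomProperty.Spec_iff (P := @LocallyOfFinitePresentation)] at h
    exact RingHom.finitePresentation_algebraMap.1 h
  haveI : Module.FinitePresentation R Γ(H.left, ⊤) := Module.FinitePresentation.of_finite_of_finitePresentation _ _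
  haveI : Module.Projective R Γ(H.left, ⊤) := Module.Flat.projective_of_finitePresentation
  obtain ⟨W, ev, hW, hft, hfp, hrep⟩ := exists_weilRes_Spec (R := R) Γ(H.left, ⊤) Γ(G.left, ⊤)
  refine ⟨W, (eH.inv ▷ W) ≫ ev ≫ eG.hom, hW, fun h => hft ?_, fun h => hfp ?_, fun T φ => ?_⟩
  · haveI := h
    have h' : LocallyOfFiniteType (Spec.map (CommRingCat.ofHom (algebraMap R Γ(G.left, ⊤)))) := by rw [hG]; infer_instance
    rw [HasRingHomProperty.Spec_iff (P := @LocallyOfFiniteType)] at h'
    exact RingHom.finiteType_algebraMap.1 h'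
  · haveI := h
    have h' : LocallyOfFinitePresentation (Spec.map (CommRingCat.ofHom (algebraMap R Γ(G.left, ⊤)))) := by rw [hG]; infer_instance
    rw [HasRingHomProperty.Spec_iff (P := @LocallyOfFinitePresentation)] at h'
    exact RingHom.finitePresentation_algebraMap.1 h'
  · obtain ⟨a, ha, hu⟩ := hrep T ((eH.hom ▷ T) ≫ φ ≫ eG.inv)
    dsimp only at ha hu
    refine ⟨a, ?_, fun b hb => hu b ?_⟩
    · show (H ◁ a) ≫ (eH.inv ▷ W) ≫ ev ≫ eG.hom = φ
      rw [← Category.assoc, whisker_exchange, Category.assoc, reassoc_of% ha]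
      simp
    · show _ ≫ ev = _
      rw [← hb, ← cancel_mono eG.hom]
      simp only [Category.assoc, Iso.inv_hom_id, Category.comp_id]
      rw [← whisker_exchange_assoc, hom_inv_whiskerRight_assoc]

/-- The chart: homomorphisms over an affine base. -/
theorem exists_representsHom_chart (R : Type u) [CommRing R] (H G : Over (Spec (CommRingCat.of R))) [GrpObj H] [GrpObj G]
    [IsFinite H.hom] [Flat H.hom] [LocallyOfFinitePresentation H.hom] [IsAffineHom G.hom] :
    ∃ (A : Over (Spec (CommRingCat.of R))) (υ : H ⊗ A ⟶ G), AutFam.RepresentsHom H G A υ ∧ IsAffineHom A.hom ∧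
      (LocallyOfFiniteType G.hom → LocallyOfFiniteType A.hom) ∧
      (LocallyOfFinitePresentation G.hom → LocallyOfFinitePresentation A.hom) := by
  obtain ⟨W, ev, hW, hft, hfp, hrep⟩ := exists_weilRes R H G
  haveI := hW
  let X := (H ⊗ H) ⊗ W
  let g₁ : X ⟶ H := fst (H ⊗ H) W ≫ fst H H
  let g₂ : X ⟶ H := fst (H ⊗ H) W ≫ snd H H
  let α : X ⟶ G := lift (g₁ * g₂) (snd _ _) ≫ ev
  let β : X ⟶ G := (lift g₁ (snd _ _) ≫ ev) * (lift g₂ (snd _ _) ≫ ev)
  obtain ⟨E, j, hji, hjc, hjp, hj⟩ := WeilClosedLib.exists_immersion_equalizer α β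
  haveI := hjc inferInstance
  have key : ∀ {T : Over (Spec (CommRingCat.of R))} (a : T ⟶ W),
      AutFam.IsHomFamily H G ((H ◁ a) ≫ ev) ↔ ((H ⊗ H) ◁ a) ≫ α = ((H ⊗ H) ◁ a) ≫ β := by
    intro T a
    have hα : ∀ (Y : Over (Spec (CommRingCat.of R))) (h₁ h₂ : Y ⟶ H) (y : Y ⟶ T),
        lift (lift h₁ h₂) y ≫ ((H ⊗ H) ◁ a) ≫ α = lift (h₁ * h₂) y ≫ (H ◁ a) ≫ ev ∧
        lift (lift h₁ h₂) y ≫ ((H ⊗ H) ◁ a) ≫ β =
          (lift h₁ y ≫ (H ◁ a) ≫ ev) * (lift h₂ y ≫ (H ◁ a) ≫ ev) := fun Y h₁ h₂ y => by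
      constructor <;> simp only [α, β, g₁, g₂, lift_whiskerLeft_assoc, MonObj.comp_mul, comp_lift_assoc,
        lift_fst_assoc, lift_fst, lift_snd]
    refine ⟨fun h => ?_, fun h Y h₁ h₂ y => ?_⟩
    · have h1 := hα _ (fst (H ⊗ H) T ≫ fst H H) (fst (H ⊗ H) T ≫ snd H H) (snd _ _)
      have hid : lift (lift (fst (H ⊗ H) T ≫ fst H H) (fst (H ⊗ H) T ≫ snd H H)) (snd (H ⊗ H) T) = 𝟙 _ := by
        rw [← comp_lift, lift_fst_snd, Category.comp_id, lift_fst_snd]
      rw [hid, Category.id_comp, Category.id_comp] at h1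
      rw [h1.1, h1.2]
      exact h _ _ _ _
    · rw [← (hα Y h₁ h₂ y).1, h, (hα Y h₁ h₂ y).2]
  let f : X.left ⟶ W.left := pullback.snd (H ⊗ H).hom W.hom
  haveI : IsFinite (H ⊗ H).hom := inferInstanceAs (IsFinite (pullback.fst H.hom H.hom ≫ H.hom))
  haveI : Flat (H ⊗ H).hom := inferInstanceAs (Flat (pullback.fst H.hom H.hom ≫ H.hom))
  haveI : LocallyOfFinitePresentation (H ⊗ H).hom :=
    inferInstanceAs (LocallyOfFinitePresentation (pullback.fst H.hom H.hom ≫ H.hom))
  haveI : IsFinite f := inferInstanceAs (IsFinite (pullback.snd (H ⊗ H).hom W.hom))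
  haveI : Flat f := inferInstanceAs (Flat (pullback.snd (H ⊗ H).hom W.hom))
  haveI : LocallyOfFinitePresentation f := inferInstanceAs (LocallyOfFinitePresentation (pullback.snd (H ⊗ H).hom W.hom))
  obtain ⟨C, t, htc, ht, htp⟩ := Groth.Agent.S4101.result W.left X.left E.left f
    (WeilClosedLib.isEssentiallyFree_of_finite_flat f) j.left
  haveI := htc
  have hfac : ∀ {T : Over (Spec (CommRingCat.of R))} (a : T ⟶ W),
      (∃ c, c ≫ t = a.left) ↔ AutFam.IsHomFamily H G ((H ◁ a) ≫ ev) := by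
    intro T a
    rw [ht, key, ← hj, ← WeilClosedLib.factorsOn_iff_isIso]
    constructor
    · intro h
      obtain ⟨l, hl⟩ := h ((H ⊗ H) ◁ a).left (snd (H ⊗ H) T).left (congrArg CommaMorphism.left (whiskerLeft_snd (H ⊗ H) a))
      refine ⟨Over.homMk l ?_, Over.OverMorphism.ext hl⟩
      rw [← Over.w j, reassoc_of% hl, Over.w]
    · rintro ⟨l, hl⟩ Y b c hbc
      have hpb := isPullback_whiskerLeft_left (H ⊗ H) a
      refine ⟨hpb.lift b c hbc ≫ l.left, ?_⟩
      rw [Category.assoc, show l.left ≫ j.left = ((H ⊗ H) ◁ a).left from congrArg CommaMorphism.left hl, hpb.lift_fst]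
  let A : Over (Spec (CommRingCat.of R)) := Over.mk (t ≫ W.hom)
  let ιA : A ⟶ W := Over.homMk t rfl
  refine ⟨A, (H ◁ ιA) ≫ ev, ⟨(hfac ιA).1 ⟨𝟙 _, Category.id_comp _⟩, fun T φ hφ => ?_⟩,
    inferInstanceAs (IsAffineHom (t ≫ W.hom)), fun h => ?_, fun h => ?_⟩
  · obtain ⟨a, ha, hu⟩ := hrep T φ
    dsimp only at ha hu
    obtain ⟨c, hc⟩ := (hfac a).2 (by rw [ha]; exact hφ)
    let c' : T ⟶ A := Over.homMk c (by show c ≫ t ≫ W.hom = _; rw [reassoc_of% hc, Over.w])
    have hc' : c' ≫ ιA = a := Over.OverMorphism.ext hc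
    refine ⟨c', ?_, fun b hb => ?_⟩
    · show (H ◁ c') ≫ (H ◁ ιA) ≫ ev = φ
      rw [← whiskerLeft_comp_assoc, hc', ha]
    · have hb' : b ≫ ιA = a := hu _ (by rw [whiskerLeft_comp_assoc]; exact hb)
      refine Over.OverMorphism.ext ((cancel_mono t).1 ?_)
      exact (congrArg CommaMorphism.left hb').trans hc.symm
  · haveI := hft h
    exact inferInstanceAs (LocallyOfFiniteType (t ≫ W.hom))
  · haveI := hfp h
    haveI := htp inferInstance (hjp inferInstance)
    exact inferInstanceAs (LocallyOfFinitePresentation (t ≫ W.hom))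

/-- Homomorphisms from a finite locally free group into an affine group. -/
theorem exists_representsHom_intoAffine {S : Scheme.{u}} (H G : Over S) [GrpObj H] [GrpObj G]
    [IsFinite H.hom] [Flat H.hom] [LocallyOfFinitePresentation H.hom] [IsAffineHom G.hom] :
    ∃ (A : Over S) (υ : H ⊗ A ⟶ G), AutFam.RepresentsHom H G A υ ∧ IsAffineHom A.hom ∧
      (LocallyOfFiniteType G.hom → LocallyOfFiniteType A.hom) ∧
      (LocallyOfFinitePresentation G.hom → LocallyOfFinitePresentation A.hom) := by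
  let 𝒰 := S.affineCover
  let R : 𝒰.I₀ → CommRingCat.{u} := fun i => Γ(𝒰.X i, ⊤)
  let p : ∀ i, Spec (CommRingCat.of (R i)) ⟶ S := fun i => (𝒰.X i).isoSpec.inv ≫ 𝒰.f i
  have hloc : ∀ i, ∃ (A : Over (Spec (CommRingCat.of (R i)))) (υ : H ⊗ (Over.map (p i)).obj A ⟶ G),
      RepOn (p i) A υ ∧ IsAffineHom A.hom ∧
      (LocallyOfFiniteType G.hom → LocallyOfFiniteType A.hom) ∧
      (LocallyOfFinitePresentation G.hom → LocallyOfFinitePresentation A.hom) := fun i => by
    haveI : IsFinite (Red.bc (p i) H).hom := inferInstanceAs (IsFinite (pullback.snd H.hom (p i)))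
    haveI : Flat (Red.bc (p i) H).hom := inferInstanceAs (Flat (pullback.snd H.hom (p i)))
    haveI : LocallyOfFinitePresentation (Red.bc (p i) H).hom :=
      inferInstanceAs (LocallyOfFinitePresentation (pullback.snd H.hom (p i)))
    haveI : IsAffineHom (Red.bc (p i) G).hom := inferInstanceAs (IsAffineHom (pullback.snd G.hom (p i)))
    obtain ⟨A, υ', h', ha, hft, hfp⟩ := exists_representsHom_chart (R i) (Red.bc (p i) H) (Red.bc (p i) G)
    obtain ⟨υ, hυ⟩ := exists_repOn_of_representsHom (p i) h'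
    refine ⟨A, υ, hυ, ha, fun h => hft ?_, fun h => hfp ?_⟩
    · haveI := h; exact inferInstanceAs (LocallyOfFiniteType (pullback.snd G.hom (p i)))
    · haveI := h; exact inferInstanceAs (LocallyOfFinitePresentation (pullback.snd G.hom (p i)))
  choose A υ hυ ha hft hfp using hloc
  obtain ⟨υA, hυA⟩ := exists_repOn_sigma p A υ hυ
  haveI : ∀ i, IsOpenImmersion (p i) := fun i => inferInstanceAs (IsOpenImmersion ((𝒰.X i).isoSpec.inv ≫ 𝒰.f i))
  haveI : Flat (Limits.Sigma.desc p) := IsZariskiLocalAtSource.sigmaDesc fun i => inferInstance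
  haveI : LocallyOfFinitePresentation (Limits.Sigma.desc p) := IsZariskiLocalAtSource.sigmaDesc fun i => inferInstance
  haveI : Surjective (Limits.Sigma.desc p) := ⟨fun s => by
    obtain ⟨i, y, hy⟩ := 𝒰.exists_eq s
    refine ⟨Sigma.ι (fun i => Spec (CommRingCat.of (R i))) i ((𝒰.X i).isoSpec.hom y), ?_⟩
    rw [← Scheme.Hom.comp_apply, Sigma.ι_desc]
    show ((𝒰.X i).isoSpec.hom ≫ p i) y = s
    simp [p, hy]⟩
  haveI : SchDesc.IsFpqc (Limits.Sigma.desc p) := SchDesc.IsFpqc.of_locallyOfFinitePresentation _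
  obtain ⟨U, υU, hU, q, hq⟩ := exists_representsHom hυA fun D hD => by
    haveI : IsAffineHom D.obj.hom := by
      rw [hD]; exact SchDesc.prop_sigmaMap @IsAffineHom _ ha
    exact effective_of_isAffineHom D
  have hbase : ∀ i, IsPullback (Sigma.ι (fun i => (A i).left) i ≫ q) (A i).hom U.hom (p i) := fun i => by
    have h := (SchDesc.isPullback_sigmaMap (fun i => (A i).hom) i).paste_horiz hq
    rwa [Sigma.ι_desc] at h
  have hloc' : ∀ (P : MorphismProperty Scheme.{u}) [IsZariskiLocalAtTarget P], (∀ i, P (A i).hom) → P U.hom := by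
    intro P _ hP
    refine (IsZariskiLocalAtTarget.iff_of_openCover (P := P) 𝒰).2 fun i => ?_
    show P (pullback.snd U.hom (𝒰.f i))
    have hiso : P (pullback.snd U.hom (p i)) := by
      rw [← MorphismProperty.cancel_left_of_respectsIso P (hbase i).isoPullback.hom, IsPullback.isoPullback_hom_snd]
      exact hP i
    have hp : 𝒰.f i = (𝒰.X i).isoSpec.hom ≫ p i := by simp [p]
    rw [← MorphismProperty.cancel_right_of_respectsIso P _ (𝒰.X i).isoSpec.hom]
    have hcmp : IsPullback (pullback.fst U.hom (𝒰.f i)) (pullback.snd U.hom (𝒰.f i) ≫ (𝒰.X i).isoSpec.hom) U.hom (p i) :=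
      (IsPullback.of_hasPullback U.hom (𝒰.f i)).of_iso (Iso.refl _) (Iso.refl _) (𝒰.X i).isoSpec (Iso.refl _)
        (by simp) (by simp) (by simp) (by simp [p])
    rw [← hcmp.isoPullback_hom_snd, MorphismProperty.cancel_left_of_respectsIso P]
    exact hiso
  exact ⟨U, υU, hU, hloc' @IsAffineHom ha, fun h => hloc' @LocallyOfFiniteType fun i => hft i h,
    fun h => hloc' @LocallyOfFinitePresentation fun i => hfp i h⟩

end Groth.Agent.HomRep
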