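import Groth.Agent.HomRep.MorS
import Groth.Agent.QuotLib.AffineQuot

/-!
Morphisms from a finite locally free scheme into a scheme whose finite sets in fibres lie in affine opens
form a representable functor.
-/

set_option autoImplicit false
set_option backward.isDefEq.respectTransparency false
set_option backward.isDefEq.respectTransparency.types false
set_option linter.style.haveILetI false

universe u

open CategoryTheory CategoryTheory.Limits MonoidalCategory CartesianMonoidalCategory AlgebraicGeometry Opposite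

noncomputable section

namespace Groth.Agent.HomRep.MorAF

open MorS

variable {Z X S : Scheme.{u}} (g : Z ⟶ S) (f : X ⟶ S)

/-- A chart over an affine piece of the base over which the target is affine. -/
theorem exists_chart' [IsFinite g] [Flat g] [LocallyOfFinitePresentation g] (R : Type u) [CommRing R]
    (p : Spec (CommRingCat.of R) ⟶ S) [IsAffineHom (pullback.snd f p)] :
    ∃ (W : Over (Spec (CommRingCat.of R))) (e : (Flatn.morS g f).obj (op ((Over.map p).obj W))),
      ∀ (T : Over (Spec (CommRingCat.of R))) (x : (Flatn.morS g f).obj (op ((Over.map p).obj T))),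
        ∃! a : T ⟶ W, (Flatn.morS g f).map ((Over.map p).map a).op e = x := by
  let H : Over S := Over.mk g
  let G : Over S := Over.mk f
  haveI : IsFinite (Red.bc p H).hom := inferInstanceAs (IsFinite (pullback.snd g p))
  haveI : Flat (Red.bc p H).hom := inferInstanceAs (Flat (pullback.snd g p))
  haveI : LocallyOfFinitePresentation (Red.bc p H).hom := inferInstanceAs (LocallyOfFinitePresentation (pullback.snd g p))
  haveI : IsAffineHom (Red.bc p G).hom := inferInstanceAs (IsAffineHom (pullback.snd f p))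
  obtain ⟨W, ev, hW, -, -, hrep⟩ := exists_weilRes R (Red.bc p H) (Red.bc p G)
  let υ : H ⊗ (Over.map p).obj W ⟶ G := inv (proj p H W) ≫ ((Over.mapPullbackAdj p).homEquiv _ _).symm ev
  refine ⟨W, (conv g f).symm υ, fun T x => ?_⟩
  obtain ⟨a, ha, hu⟩ := hrep T ((Over.mapPullbackAdj p).homEquiv _ _ (proj p H T ≫ conv g f x))
  have key : ∀ b : T ⟶ W, (Flatn.morS g f).map ((Over.map p).map b).op ((conv g f).symm υ) = x ↔
      (Red.bc p H ◁ b) ≫ ev = (Over.mapPullbackAdj p).homEquiv _ _ (proj p H T ≫ conv g f x) := by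
    intro b
    rw [← (conv g f).injective.eq_iff, conv_map, Equiv.apply_symm_apply]
    have hnat : (Over.map p).map (Red.bc p H ◁ b) ≫ proj p H W = proj p H T ≫ (H ◁ (Over.map p).map b) := by
      refine hom_ext _ _ ?_ ?_
      · simp only [proj, Category.assoc, lift_fst, whiskerLeft_fst]
        rw [← Adjunction.homEquiv_naturality_left_symm, whiskerLeft_fst]
      · simp only [proj, Category.assoc, lift_snd, whiskerLeft_snd]
        rw [lift_snd_assoc, ← Functor.map_comp, ← Functor.map_comp, whiskerLeft_snd]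
    have : proj p H T ≫ (H ◁ (Over.map p).map b) ≫ υ =
        (Over.map p).map (Red.bc p H ◁ b) ≫ ((Over.mapPullbackAdj p).homEquiv _ _).symm ev := by
      rw [← reassoc_of% hnat, IsIso.hom_inv_id_assoc]
    rw [← cancel_epi (proj p H T), this, ← ((Over.mapPullbackAdj p).homEquiv _ _).injective.eq_iff,
      Adjunction.homEquiv_naturality_left, Equiv.apply_symm_apply]
  exact ⟨a, (key a).2 ha, fun b hb => hu b ((key b).1 hb)⟩

/-- An affine open of `X` over an affine open of `S`. -/
abbrev Ix := {p : S.Opens × X.Opens // IsAffineOpen p.1 ∧ IsAffineOpen p.2 ∧ p.2 ≤ f ⁻¹ᵁ p.1}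

/-- The affine piece of the base. -/
def pp (i : Ix f) : Spec Γ(S, i.1.1) ⟶ S := i.2.1.fromSpec

instance (i : Ix f) : IsOpenImmersion (pp f i) := inferInstanceAs (IsOpenImmersion i.2.1.fromSpec)

theorem range_pp (i : Ix f) : Set.range (pp f i) = (i.1.1 : Set S) := i.2.1.range_fromSpec

instance (i : Ix f) : IsAffineHom (pullback.snd (i.1.2.ι ≫ f) (pp f i)) := by
  haveI : IsAffine (i.1.2 : Scheme.{u}) := i.2.2.1
  have h : Set.range (i.1.2.ι ≫ f) ⊆ Set.range (pp f i) := by
    rw [range_pp]
    rintro _ ⟨z, rfl⟩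
    rw [Scheme.Hom.comp_apply]
    exact i.2.2.2 z.2
  haveI : IsIso (pullback.fst (i.1.2.ι ≫ f) (pp f i)) :=
    ⟨⟨pullback.lift (𝟙 _) (IsOpenImmersion.lift _ _ h) (by simp),
      pullback.hom_ext (by simp) ((cancel_mono (pp f i)).1 (by simp [pullback.condition])),
      by simp⟩⟩
  haveI : IsAffine (pullback (i.1.2.ι ≫ f) (pp f i)) := IsAffine.of_isIso (pullback.fst (i.1.2.ι ≫ f) (pp f i))
  exact inferInstanceAs (IsAffineHom (pullback.snd (i.1.2.ι ≫ f) (pp f i)))

/-- Composition with the inclusion of an open of the target. -/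
def post (U : X.Opens) {T : Over S} (x : (Flatn.morS g (U.ι ≫ f)).obj (op T)) : (Flatn.morS g f).obj (op T) :=
  x ≫ (Over.homMk U.ι rfl : Over.mk (U.ι ≫ f) ⟶ Over.mk f)

theorem post_map (U : X.Opens) {T T' : Over S} (a : T' ⟶ T) (x : (Flatn.morS g (U.ι ≫ f)).obj (op T)) :
    (Flatn.morS g f).map a.op (post g f U x) = post g f U ((Flatn.morS g (U.ι ≫ f)).map a.op x) := by
  show (Over.map g).map ((Over.pullback g).map a) ≫ x ≫ (Over.homMk U.ι rfl : Over.mk (U.ι ≫ f) ⟶ Over.mk f) =
    ((Over.map g).map ((Over.pullback g).map a) ≫ x) ≫ (Over.homMk U.ι rfl : Over.mk (U.ι ≫ f) ⟶ Over.mk f)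
  exact (Category.assoc _ _ _).symm

theorem post_left (U : X.Opens) {T : Over S} (x : (Flatn.morS g (U.ι ≫ f)).obj (op T)) :
    (post g f U x).left = x.left ≫ U.ι := rfl

theorem post_injective (U : X.Opens) {T : Over S} : Function.Injective (post g f U (T := T)) := fun x y h =>
  Over.OverMorphism.ext ((cancel_mono U.ι).1 (congrArg CommaMorphism.left h :))

theorem exists_post (U : X.Opens) {T : Over S} (y : (Flatn.morS g f).obj (op T))
    (h : Set.range y.left ⊆ (U : Set X)) : ∃ x, post g f U (T := T) x = y := by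
  refine ⟨Over.homMk (IsOpenImmersion.lift U.ι y.left (h.trans (Scheme.Opens.range_ι U).ge)) ?_, ?_⟩
  · show IsOpenImmersion.lift U.ι y.left _ ≫ U.ι ≫ f = _
    rw [← Category.assoc, IsOpenImmersion.lift_fac]
    exact Over.w y
  · exact Over.OverMorphism.ext (IsOpenImmersion.lift_fac _ _ _)

/-- Representability. -/
theorem exists_representable [IsFinite g] [Flat g] [LocallyOfFinitePresentation g]
    (hAF : ∀ (s : S) (d : ℕ) (x : Fin d → ↥X), (∀ k, f (x k) = s) → ∃ U : X.Opens, IsAffineOpen U ∧ ∀ k, x k ∈ U) :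
    ∃ W : Over S, Nonempty ((Flatn.morS g f).RepresentableBy W) := by
  let F := Flatn.morS g f
  choose A e hrep using fun i : Ix f => exists_chart' g (i.1.2.ι ≫ f) Γ(S, i.1.1) (pp f i)
  let Z₀ : Ix f → Over S := fun i => (Over.map (pp f i)).obj (A i)
  let e' : ∀ i, F.obj (op (Z₀ i)) := fun i => post g f i.1.2 (e i)
  have lift : ∀ (i : Ix f) (T : Over S) (x : T.left ⟶ Spec Γ(S, i.1.1)), x ≫ pp f i = T.hom →
      ∀ s : (Flatn.morS g (i.1.2.ι ≫ f)).obj (op T),
        ∃ a : T ⟶ Z₀ i, (Flatn.morS g (i.1.2.ι ≫ f)).map a.op (e i) = s := by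
    intro i T x hx s
    let T₀ : Over (Spec Γ(S, i.1.1)) := Over.mk x
    let c : (Over.map (pp f i)).obj T₀ ≅ T := Over.isoMk (Iso.refl _) (by simpa [T₀] using hx.symm)
    obtain ⟨a, ha, -⟩ := hrep i T₀ ((Flatn.morS g (i.1.2.ι ≫ f)).map c.hom.op s)
    refine ⟨c.inv ≫ (Over.map (pp f i)).map a, ?_⟩
    rw [op_comp, Functor.map_comp, ConcreteCategory.comp_apply, ha, ← ConcreteCategory.comp_apply,
      ← Functor.map_comp, ← op_comp, c.inv_hom_id, op_id]
    exact congrArg (fun φ => φ s) ((Flatn.morS g (i.1.2.ι ≫ f)).map_id (op T))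
  have hinj : ∀ (i : Ix f) (T : Over S) (a b : T ⟶ Z₀ i), F.map a.op (e' i) = F.map b.op (e' i) → a = b := by
    intro i T a b h
    rw [post_map, post_map] at h
    replace h := post_injective g f _ h
    have hab : a.left ≫ (A i).hom = b.left ≫ (A i).hom := by
      rw [← cancel_mono (pp f i), Category.assoc, Category.assoc]
      exact (Over.w a).trans (Over.w b).symm
    let T₀ : Over (Spec Γ(S, i.1.1)) := Over.mk (a.left ≫ (A i).hom)
    let c : (Over.map (pp f i)).obj T₀ ⟶ T :=
      Over.homMk (𝟙 _) ((Category.id_comp _).trans (((Over.w a).symm.trans (Category.assoc _ _ _).symm) :))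
    let a₀ : T₀ ⟶ A i := Over.homMk a.left rfl
    let b₀ : T₀ ⟶ A i := Over.homMk b.left hab.symm
    have ea : (Over.map (pp f i)).map a₀ = c ≫ a := Over.OverMorphism.ext (Category.id_comp _).symm
    have eb : (Over.map (pp f i)).map b₀ = c ≫ b := Over.OverMorphism.ext (Category.id_comp _).symm
    obtain ⟨d, -, hu⟩ := hrep i T₀ ((Flatn.morS g (i.1.2.ι ≫ f)).map c.op ((Flatn.morS g (i.1.2.ι ≫ f)).map a.op (e i)))
    have h1 : a₀ = d := hu a₀ (by beta_reduce; rw [ea, op_comp, Functor.map_comp]; rfl)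
    have h2 : b₀ = d := hu b₀ (by beta_reduce; rw [eb, op_comp, Functor.map_comp, h]; rfl)
    exact Over.OverMorphism.ext (congrArg CommaMorphism.left (h1.trans h2.symm) :)
  have hopen : ∀ (i : Ix f) (T : Over S) (s : F.obj (op T)), ∃ Vo : T.left.Opens,
      (∀ (T' : Over S) (t : T' ⟶ T), (∃ a : T' ⟶ Z₀ i, F.map a.op (e' i) = F.map t.op s) ↔
        Set.range t.left ⊆ Vo) ∧
      ∀ z, T.hom z ∈ i.1.1 → (∀ w : (pullback T.hom g : Scheme.{u}), pullback.fst T.hom g w = z → s.left w ∈ i.1.2) →
        z ∈ Vo := by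
    intro i T s
    let q : (pullback T.hom g : Scheme.{u}) ⟶ T.left := pullback.fst T.hom g
    let sl : (pullback T.hom g : Scheme.{u}) ⟶ X := s.left
    let C : Set (pullback T.hom g : Scheme.{u}) := ((sl ⁻¹ᵁ i.1.2 : (pullback T.hom g).Opens) : Set _)ᶜ
    have hC : IsClosed (q '' C) := q.isClosedMap _ (sl ⁻¹ᵁ i.1.2).2.isClosed_compl
    refine ⟨⟨(T.hom ⁻¹ᵁ i.1.1 : Set T.left) ∩ (q '' C)ᶜ, (T.hom ⁻¹ᵁ i.1.1).2.inter hC.isOpen_compl⟩,
      fun T' t => ⟨?_, fun hr => ?_⟩, fun z hz hw => ⟨hz, ?_⟩⟩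
    · rintro ⟨a, ha⟩ _ ⟨z, rfl⟩
      refine ⟨?_, ?_⟩
      · show T.hom (t.left z) ∈ i.1.1
        rw [← SetLike.mem_coe, ← range_pp f i]
        let al : T'.left ⟶ (A i).left := a.left
        refine ⟨(A i).hom (al z), ?_⟩
        have h0 : al ≫ (A i).hom ≫ pp f i = t.left ≫ T.hom := (Over.w a).trans (Over.w t).symm
        exact ((Scheme.Hom.comp_apply (A i).hom (pp f i) _).symm.trans ((Scheme.Hom.comp_apply al _ z).symm.trans
          ((congrArg (fun m : T'.left ⟶ S => m z) h0).trans (Scheme.Hom.comp_apply t.left T.hom z))))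
      · rintro ⟨w, hw, hwz⟩
        obtain ⟨u, hu1, hu2⟩ := Scheme.Pullback.exists_preimage_pullback z w hwz.symm (f := t.left) (g := q)
        have hcond : pullback.fst t.left q ≫ T'.hom = (pullback.snd t.left q ≫ pullback.snd T.hom g) ≫ g := by
          rw [Category.assoc, ← pullback.condition, ← pullback.condition_assoc, Over.w t]
        let l := pullback.lift (f := T'.hom) (g := g) (pullback.fst t.left q) (pullback.snd t.left q ≫ pullback.snd T.hom g) hcond
        have hl : l ≫ ((Over.pullback g).map t).left = pullback.snd t.left q := by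
          refine pullback.hom_ext ?_ ?_
          · simp [l, q, pullback.condition]
          · simp [l]
        rw [post_map] at ha
        have h2 := congrArg (fun m => (l ≫ CommaMorphism.left m) u) ha
        have h3 : (l ≫ (((Flatn.morS g f).map t.op) s).left) u = s.left w := by
          let tl : pullback T'.hom g ⟶ pullback T.hom g := ((Over.pullback g).map t).left
          show (l ≫ tl ≫ sl) u = sl w
          have hl' : l ≫ tl = pullback.snd t.left q := hl
          rw [← Category.assoc, hl', Scheme.Hom.comp_apply, hu2]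
        refine hw (show s.left w ∈ i.1.2 from ?_)
        rw [← h3, ← h2]
        show (l ≫ _ ≫ i.1.2.ι) u ∈ i.1.2
        rw [← Category.assoc, Scheme.Hom.comp_apply, ← SetLike.mem_coe, ← Scheme.Opens.range_ι]
        exact ⟨_, rfl⟩
    · have hrV : Set.range T'.hom ⊆ Set.range (pp f i) := by
        rintro _ ⟨z, rfl⟩
        rw [range_pp, ← Over.w t, Scheme.Hom.comp_apply]
        exact (hr ⟨z, rfl⟩).1
      have hrU : Set.range (F.map t.op s).left ⊆ (i.1.2 : Set X) := by
        rintro _ ⟨v, rfl⟩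
        show (((Over.pullback g).map t).left ≫ s.left) v ∈ i.1.2
        rw [Scheme.Hom.comp_apply]
        by_contra hne
        refine (hr ⟨pullback.fst T'.hom g v, rfl⟩).2 ⟨((Over.pullback g).map t).left v, hne, ?_⟩
        let tl : pullback T'.hom g ⟶ pullback T.hom g := ((Over.pullback g).map t).left
        show q (tl v) = t.left (pullback.fst T'.hom g v)
        exact (Scheme.Hom.comp_apply tl q v).symm.trans ((congrArg (fun m : pullback T'.hom g ⟶ T.left => m v)
          (show tl ≫ q = pullback.fst T'.hom g ≫ t.left by simp [q, tl])).trans (Scheme.Hom.comp_apply _ _ v))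
      obtain ⟨x, hx⟩ := exists_post g f _ (F.map t.op s) hrU
      obtain ⟨a, ha⟩ := lift i T' (IsOpenImmersion.lift (pp f i) T'.hom hrV) (IsOpenImmersion.lift_fac _ _ _) x
      exact ⟨a, by rw [post_map, ha, hx]⟩
    · rintro ⟨w, hw', hwz⟩
      exact hw' (hw w hwz)
  choose Vo hVo hVmem using hopen
  obtain ⟨Y, hY⟩ := OverRep.exists_representableBy_of_cover (isSheaf g f) Z₀ e' hinj
    (fun i T s => ⟨Vo i T s, hVo i T s⟩) (fun T s z => by
      obtain ⟨_, ⟨V, hV, rfl⟩, hzV, -⟩ :=
        S.isBasis_affineOpens.exists_subset_of_mem_open (Set.mem_univ (T.hom z)) isOpen_univ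
      have hfin := (pullback.fst T.hom g).finite_preimage_singleton z
      haveI : Fintype ↥(pullback.fst T.hom g ⁻¹' {z}) := hfin.fintype
      let E := (Fintype.equivFin ↥(pullback.fst T.hom g ⁻¹' {z})).symm
      let x : Fin (Fintype.card ↥(pullback.fst T.hom g ⁻¹' {z})) → ↥X := fun k => s.left (E k).1
      have hx : ∀ k, f (x k) = T.hom z := fun k => by
        show f (s.left (E k).1) = T.hom z
        have h1 : s.left ≫ f = pullback.fst T.hom g ≫ T.hom := (Over.w s).trans pullback.condition.symm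
        refine ((Scheme.Hom.comp_apply s.left f _).symm.trans (congrArg (fun m : pullback T.hom g ⟶ S => m (E k).1) h1)).trans ?_
        show (pullback.fst T.hom g ≫ T.hom) _ = _
        rw [Scheme.Hom.comp_apply, show pullback.fst T.hom g (E k).1 = z from (E k).2]
      obtain ⟨U₀, hU₀, hxU⟩ := hAF (T.hom z) _ x hx
      obtain ⟨φ, hφ, hφx⟩ := QuotLib.exists_basicOpen_finite hU₀ (f ⁻¹ᵁ V) x hxU
        (fun k => show f (x k) ∈ V by rw [hx k]; exact hzV)
      let i : Ix f := ⟨(V, X.basicOpen φ), hV, hU₀.basicOpen φ, hφ⟩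
      have hz : z ∈ Vo i T s := hVmem i T s z hzV fun w hw => by
        obtain ⟨k, hk⟩ := E.surjective ⟨w, hw⟩
        have := hφx k
        simpa [x, hk] using this
      let T' : Over S := Over.mk ((Vo i T s).ι ≫ T.hom)
      let t : T' ⟶ T := Over.homMk (Vo i T s).ι rfl
      have ht : t.left = (Vo i T s).ι := rfl
      obtain ⟨a, ha⟩ := (hVo i T s T' t).2 ((ht ▸ (Scheme.Opens.range_ι (Vo i T s)).le))
      exact ⟨i, T', t, a, inferInstanceAs (IsOpenImmersion (Vo i T s).ι),
        ht ▸ (Scheme.Opens.range_ι (Vo i T s)).ge hz, ha⟩)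
  exact ⟨Y, hY⟩

end Groth.Agent.HomRep.MorAF
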