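import Groth.Prelude.Def_Flatn
import Groth.Agent.HomRep.IntoAffine
import Groth.Agent.OverRep.Main

/-!
The functor of morphisms from a finite locally free scheme into an affine one is representable by an affine scheme.
-/

set_option autoImplicit false
set_option backward.isDefEq.respectTransparency false
set_option backward.isDefEq.respectTransparency.types false
set_option linter.style.haveILetI false

universe u

open CategoryTheory CategoryTheory.Limits MonoidalCategory CartesianMonoidalCategory AlgebraicGeometry Opposite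

noncomputable section

namespace Groth.Agent.HomRep.MorS

variable {Z X S : Scheme.{u}} (g : Z ⟶ S) (f : X ⟶ S)

/-- The two orders of the fibre product. -/
def swap (T : Over S) : Over.mk g ⊗ T ≅ (Over.map g).obj ((Over.pullback g).obj T) :=
  Over.isoMk (pullbackSymmetry g T.hom) (by
    show (pullbackSymmetry g T.hom).hom ≫ pullback.snd T.hom g ≫ g = pullback.fst g T.hom ≫ g
    rw [pullbackSymmetry_hom_comp_snd_assoc])

theorem swap_natural {T T' : Over S} (a : T' ⟶ T) :
    (Over.mk g ◁ a) ≫ (swap g T).hom = (swap g T').hom ≫ (Over.map g).map ((Over.pullback g).map a) := by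
  refine Over.OverMorphism.ext (pullback.hom_ext ?_ ?_)
  · have h : (Over.mk g ◁ a).left ≫ pullback.snd g T.hom = pullback.snd g T'.hom ≫ a.left :=
      congrArg CommaMorphism.left (whiskerLeft_snd (Over.mk g) a)
    change ((Over.mk g ◁ a).left ≫ (pullbackSymmetry g T.hom).hom) ≫ pullback.fst T.hom g =
      ((pullbackSymmetry g T'.hom).hom ≫ ((Over.pullback g).map a).left) ≫ pullback.fst T.hom g
    simp [Category.assoc, h]
  · have h : (Over.mk g ◁ a).left ≫ pullback.fst g T.hom = pullback.fst g T'.hom :=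
      congrArg CommaMorphism.left (whiskerLeft_fst (Over.mk g) a)
    change ((Over.mk g ◁ a).left ≫ (pullbackSymmetry g T.hom).hom) ≫ pullback.snd T.hom g =
      ((pullbackSymmetry g T'.hom).hom ≫ ((Over.pullback g).map a).left) ≫ pullback.snd T.hom g
    simp [Category.assoc, h]

/-- A section as a morphism out of the product. -/
def conv {T : Over S} : (Flatn.morS g f).obj (op T) ≃ (Over.mk g ⊗ T ⟶ Over.mk f) where
  toFun x := (swap g T).hom ≫ x
  invFun φ := (swap g T).inv ≫ φ
  left_inv x := (swap g T).inv_hom_id_assoc x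
  right_inv φ := (swap g T).hom_inv_id_assoc φ

theorem conv_map {T T' : Over S} (a : T' ⟶ T) (x : (Flatn.morS g f).obj (op T)) :
    conv g f ((Flatn.morS g f).map a.op x) = (Over.mk g ◁ a) ≫ conv g f x := by
  show (swap g T').hom ≫ (Over.map g).map ((Over.pullback g).map a) ≫ x = (Over.mk g ◁ a) ≫ (swap g T).hom ≫ x
  rw [← Category.assoc, ← swap_natural g a, Category.assoc]

theorem isSheaf : Presheaf.IsSheaf (Scheme.zariskiTopology.over S) (Flatn.morS g f) := by
  haveI : (Over.pullback g ⋙ Over.map g).IsContinuous (Scheme.zariskiTopology.over S) (Scheme.zariskiTopology.over S) :=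
    Functor.isContinuous_comp _ _ _ (Scheme.zariskiTopology.over Z) _
  exact (Over.pullback g ⋙ Over.map g).op_comp_isSheaf_of_types (Scheme.zariskiTopology.over S) (Scheme.zariskiTopology.over S)
    ⟨yoneda.obj (Over.mk f), (isSheaf_iff_isSheaf_of_type _ _).2
      (GrothendieckTopology.Subcanonical.isSheaf_of_isRepresentable _)⟩ |> (isSheaf_iff_isSheaf_of_type _ _).2

/-- A chart over an affine open piece of the base. -/
theorem exists_chart [IsFinite g] [Flat g] [LocallyOfFinitePresentation g] [IsAffineHom f] (R : Type u) [CommRing R]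
    (p : Spec (CommRingCat.of R) ⟶ S) :
    ∃ (W : Over (Spec (CommRingCat.of R))) (e : (Flatn.morS g f).obj (op ((Over.map p).obj W))),
      IsAffineHom W.hom ∧ ∀ (T : Over (Spec (CommRingCat.of R))) (x : (Flatn.morS g f).obj (op ((Over.map p).obj T))),
        ∃! a : T ⟶ W, (Flatn.morS g f).map ((Over.map p).map a).op e = x := by
  let H : Over S := Over.mk g
  let G : Over S := Over.mk f
  haveI : IsFinite (Red.bc p H).hom := inferInstanceAs (IsFinite (pullback.snd g p))
  haveI : Flat (Red.bc p H).hom := inferInstanceAs (Flat (pullback.snd g p))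
  haveI : LocallyOfFinitePresentation (Red.bc p H).hom := inferInstanceAs (LocallyOfFinitePresentation (pullback.snd g p))
  haveI : IsAffineHom (Red.bc p G).hom := inferInstanceAs (IsAffineHom (pullback.snd f p))
  obtain ⟨W, ev, hW, -, -, hrep⟩ := exists_weilRes R (Red.bc p H) (Red.bc p G)
  let υ : H ⊗ (Over.map p).obj W ⟶ G := inv (proj p H W) ≫ ((Over.mapPullbackAdj p).homEquiv _ _).symm ev
  refine ⟨W, (conv g f).symm υ, hW, fun T x => ?_⟩
  obtain ⟨a, ha, hu⟩ := hrep T ((Over.mapPullbackAdj p).homEquiv _ _ (proj p H T ≫ conv g f x))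
  have key : ∀ b : T ⟶ W, (Flatn.morS g f).map ((Over.map p).map b).op ((conv g f).symm υ) = x ↔
      (Red.bc p H ◁ b) ≫ ev = (Over.mapPullbackAdj p).homEquiv _ _ (proj p H T ≫ conv g f x) := by
    intro b
    rw [← (conv g f).injective.eq_iff, conv_map, Equiv.apply_symm_apply]
    have hnat : (Over.map p).map (Red.bc p H ◁ b) ≫ proj p H W = proj p H T ≫ (H ◁ (Over.map p).map b) := by
      refine hom_ext _ _ ?_ ?_
      · simp only [proj, Category.assoc, lift_fst, whiskerLeft_fst]
        rw [← Adjunction.homEquiv_naturality_left_symm, whiskerLeft_fst]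
      · simp only [proj, Category.assoc, lift_snd, whiskerLeft_snd]
        rw [lift_snd_assoc, ← Functor.map_comp, ← Functor.map_comp, whiskerLeft_snd]
    have : proj p H T ≫ (H ◁ (Over.map p).map b) ≫ υ =
        (Over.map p).map (Red.bc p H ◁ b) ≫ ((Over.mapPullbackAdj p).homEquiv _ _).symm ev := by
      rw [← reassoc_of% hnat, IsIso.hom_inv_id_assoc]
    rw [← cancel_epi (proj p H T), this, ← ((Over.mapPullbackAdj p).homEquiv _ _).injective.eq_iff,
      Adjunction.homEquiv_naturality_left, Equiv.apply_symm_apply]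
  exact ⟨a, (key a).2 ha, fun b hb => hu b ((key b).1 hb)⟩

/-- The representing scheme. -/
theorem exists_representable [IsFinite g] [Flat g] [LocallyOfFinitePresentation g] [IsAffineHom f] :
    ∃ W : Over S, IsAffineHom W.hom ∧ Nonempty ((Flatn.morS g f).RepresentableBy W) := by
  let F := Flatn.morS g f
  let 𝒰 := S.affineCover
  let R : 𝒰.I₀ → CommRingCat.{u} := fun i => Γ(𝒰.X i, ⊤)
  let p : ∀ i, Spec (CommRingCat.of (R i)) ⟶ S := fun i => (𝒰.X i).isoSpec.inv ≫ 𝒰.f i
  haveI hp : ∀ i, IsOpenImmersion (p i) := fun i => inferInstanceAs (IsOpenImmersion ((𝒰.X i).isoSpec.inv ≫ 𝒰.f i))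
  choose A e hA hrep using fun i => exists_chart g f (R i) (p i)
  let Z₀ : 𝒰.I₀ → Over S := fun i => (Over.map (p i)).obj (A i)
  have lift : ∀ (i) (T : Over S) (x : T.left ⟶ Spec (CommRingCat.of (R i))), x ≫ p i = T.hom →
      ∀ s : F.obj (op T), ∃ a : T ⟶ Z₀ i, F.map a.op (e i) = s := by
    intro i T x hx s
    let T₀ : Over (Spec (CommRingCat.of (R i))) := Over.mk x
    let c : (Over.map (p i)).obj T₀ ≅ T := Over.isoMk (Iso.refl _) (by simpa [T₀] using hx.symm)
    obtain ⟨a, ha, -⟩ := hrep i T₀ (F.map c.hom.op s)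
    refine ⟨c.inv ≫ (Over.map (p i)).map a, ?_⟩
    rw [op_comp, F.map_comp, ConcreteCategory.comp_apply, ha, ← ConcreteCategory.comp_apply, ← F.map_comp, ← op_comp,
      c.inv_hom_id, op_id, F.map_id]
    rfl
  have hinj : ∀ (i) (T : Over S) (a b : T ⟶ Z₀ i), F.map a.op (e i) = F.map b.op (e i) → a = b := by
    intro i T a b h
    have hab : a.left ≫ (A i).hom = b.left ≫ (A i).hom := by
      rw [← cancel_mono (p i), Category.assoc, Category.assoc]
      exact (Over.w a).trans (Over.w b).symm
    let T₀ : Over (Spec (CommRingCat.of (R i))) := Over.mk (a.left ≫ (A i).hom)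
    let c : (Over.map (p i)).obj T₀ ⟶ T := Over.homMk (𝟙 _) ((Category.id_comp _).trans (((Over.w a).symm.trans (Category.assoc _ _ _).symm) :))
    let a₀ : T₀ ⟶ A i := Over.homMk a.left rfl
    let b₀ : T₀ ⟶ A i := Over.homMk b.left hab.symm
    have ea : (Over.map (p i)).map a₀ = c ≫ a := Over.OverMorphism.ext (Category.id_comp _).symm
    have eb : (Over.map (p i)).map b₀ = c ≫ b := Over.OverMorphism.ext (Category.id_comp _).symm
    obtain ⟨d, -, hu⟩ := hrep i T₀ (F.map c.op (F.map a.op (e i)))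
    have h1 : a₀ = d := hu a₀ (by
      show F.map ((Over.map (p i)).map a₀).op (e i) = _
      rw [ea, op_comp, F.map_comp]; rfl)
    have h2 : b₀ = d := hu b₀ (by
      show F.map ((Over.map (p i)).map b₀).op (e i) = _
      rw [eb, op_comp, F.map_comp, h]; rfl)
    exact Over.OverMorphism.ext (congrArg CommaMorphism.left (h1.trans h2.symm) :)
  obtain ⟨Y, ⟨r⟩⟩ := OverRep.exists_representableBy_of_cover (isSheaf g f) Z₀ e hinj
    (fun i T s => ⟨T.hom ⁻¹ᵁ (p i).opensRange, fun T' t => ⟨fun ⟨a, _⟩ => by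
        rintro _ ⟨z, rfl⟩
        show T.hom (t.left z) ∈ (p i).opensRange
        refine ⟨(A i).hom (a.left z), ?_⟩
        exact ((Scheme.Hom.comp_apply (a.left ≫ (A i).hom) (p i) z).symm.trans (congrArg (fun m : T'.left ⟶ S => m z)
          ((Category.assoc _ _ _).trans ((Over.w a).trans (Over.w t).symm)))).trans (Scheme.Hom.comp_apply t.left T.hom z),
      fun h => by
        have hr : Set.range T'.hom ⊆ Set.range (p i) := by
          rintro _ ⟨z, rfl⟩
          rw [← Over.w t, Scheme.Hom.comp_apply]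
          exact h ⟨z, rfl⟩
        exact lift i T' (IsOpenImmersion.lift (p i) T'.hom hr) (IsOpenImmersion.lift_fac _ _ _) _⟩⟩)
    (fun T s z => by
      obtain ⟨i, y, hy⟩ := 𝒰.exists_eq (T.hom z)
      let V := T.hom ⁻¹ᵁ (p i).opensRange
      let T' : Over S := Over.mk (V.ι ≫ T.hom)
      let t : T' ⟶ T := Over.homMk V.ι rfl
      have hz : z ∈ V := ⟨(𝒰.X i).isoSpec.hom y, by
        show p i _ = _
        simp only [p, Scheme.Hom.comp_apply]
        refine Eq.trans (congrArg (𝒰.f i) ?_) hy
        exact (Scheme.Hom.comp_apply (𝒰.X i).isoSpec.hom (𝒰.X i).isoSpec.inv y).symm.trans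
          (congrArg (fun m : 𝒰.X i ⟶ 𝒰.X i => m y) (𝒰.X i).isoSpec.hom_inv_id)⟩
      have hr : Set.range T'.hom ⊆ Set.range (p i) := by
        rintro _ ⟨w, rfl⟩
        exact w.2
      obtain ⟨a, ha⟩ := lift i T' (IsOpenImmersion.lift (p i) T'.hom hr) (IsOpenImmersion.lift_fac _ _ _) (F.map t.op s)
      exact ⟨i, T', t, a, inferInstanceAs (IsOpenImmersion V.ι), ⟨⟨z, hz⟩, rfl⟩, ha⟩)
  refine ⟨Y, ?_, ⟨r⟩⟩
  have hsq : ∀ i, IsPullback (r.homEquiv.symm (e i)).left (A i).hom Y.hom (p i) := by
    intro i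
    have hq : r.homEquiv (r.homEquiv.symm (e i)) = e i := r.homEquiv.apply_symm_apply _
    refine ⟨⟨Over.w (r.homEquiv.symm (e i))⟩, ⟨PullbackCone.IsLimit.mk _ (fun s => ?_) (fun s => ?_) (fun s => ?_) (fun s m hm₁ hm₂ => ?_)⟩⟩
    · exact (lift i (Over.mk (s.snd ≫ p i)) s.snd rfl (r.homEquiv (Over.homMk s.fst s.condition))).choose.left
    · have h := (lift i (Over.mk (s.snd ≫ p i)) s.snd rfl (r.homEquiv (Over.homMk s.fst s.condition))).choose_spec
      refine congrArg CommaMorphism.left (r.homEquiv.injective ?_ :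
        (lift i (Over.mk (s.snd ≫ p i)) s.snd rfl (r.homEquiv (Over.homMk s.fst s.condition))).choose ≫
          r.homEquiv.symm (e i) = Over.homMk s.fst s.condition)
      rw [r.homEquiv_comp, hq]
      exact h
    · rw [← cancel_mono (p i), Category.assoc]
      exact Over.w (lift i (Over.mk (s.snd ≫ p i)) s.snd rfl (r.homEquiv (Over.homMk s.fst s.condition))).choose
    · have h := (lift i (Over.mk (s.snd ≫ p i)) s.snd rfl (r.homEquiv (Over.homMk s.fst s.condition))).choose_spec
      let mo : Over.mk (s.snd ≫ p i) ⟶ Z₀ i := Over.homMk m (by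
        show m ≫ (A i).hom ≫ p i = s.snd ≫ p i
        rw [reassoc_of% hm₂])
      refine congrArg CommaMorphism.left (hinj i _ mo _ ?_)
      rw [h, ← hq, ← r.homEquiv_comp]
      exact congrArg r.homEquiv (Over.OverMorphism.ext hm₁)
  refine (IsZariskiLocalAtTarget.iff_of_openCover (P := @IsAffineHom) 𝒰).2 fun i => ?_
  show IsAffineHom (pullback.snd Y.hom (𝒰.f i))
  have hcmp : IsPullback (pullback.fst Y.hom (𝒰.f i)) (pullback.snd Y.hom (𝒰.f i) ≫ (𝒰.X i).isoSpec.hom) Y.hom (p i) :=
    (IsPullback.of_hasPullback Y.hom (𝒰.f i)).of_iso (Iso.refl _) (Iso.refl _) (𝒰.X i).isoSpec (Iso.refl _)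
      (by simp) (by simp) (by simp) (by simp [p])
  haveI := hA i
  have h1 : IsAffineHom (pullback.snd Y.hom (𝒰.f i) ≫ (𝒰.X i).isoSpec.hom) := by
    rw [← IsPullback.isoIsPullback_hom_snd _ _ hcmp (hsq i)]
    infer_instance
  exact (MorphismProperty.cancel_right_of_respectsIso @IsAffineHom _ _).1 h1

end Groth.Agent.HomRep.MorS
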