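import Groth.Agent.HomRep.Local
import Groth.Agent.MaxTorus.ImageLocal
import Groth.Agent.TorusField.Bridge
import Groth.Agent.Unibranch.Open
import Groth.Agent.S9726
/-!
Homomorphisms of quasi-isotrivial groups of multiplicative type form a twisted constant scheme.
-/

set_option autoImplicit false
set_option backward.isDefEq.respectTransparency false
set_option backward.isDefEq.respectTransparency.types false
set_option linter.style.haveILetI false

universe u

open CategoryTheory CategoryTheory.Limits MonoidalCategory CartesianMonoidalCategory MonObj GrpObj AlgebraicGeometry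

noncomputable section

namespace Groth.Agent.HomRep

variable {S : Scheme.{u}}

/-- A splitting pulled back along a morphism. -/
def bcSplit {H : Over S} [GrpObj H] {S' S'' : Scheme.{u}} (f : S' ⟶ S) (k : S'' ⟶ S') {d : S'' ⟶ S} (h : k ≫ f = d)
    {M : Type} [AddCommGroup M] (e : Grp.mk (Red.bc f H) ≅ Grp.mk (Red.DS S' M)) :
    Grp.mk (Red.bc d H) ≅ Grp.mk (Red.DS S'' M) :=
  (HomDesc.bcGrpIso k f h H).symm ≪≫ TorusField.bcMapIso k e ≪≫ MaxTorus.dsBc k M

/-- Homomorphisms into a group of finite type with etale local splittings. -/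
theorem exists_representsHom_quasi' (H G : Over S) [GrpObj H] [GrpObj G]
    (hH : TwC.Locally S TwC.Topology.etale (fun S' f => ∃ (M : Type) (_ : AddCommGroup M),
      Nonempty (Grp.mk (Red.bc f H) ≅ Grp.mk (Red.DS S' M))))
    (hG : TwC.Locally S TwC.Topology.etale (fun S' f => ∃ (M : Type) (_ : AddCommGroup M),
      AddGroup.FG M ∧ Nonempty (Grp.mk (Red.bc f G) ≅ Grp.mk (Red.DS S' M)))) :
    ∃ (A : Over S) (υ : H ⊗ A ⟶ G), AutFam.RepresentsHom H G A υ ∧ TwC.IsTwConst TwC.Topology.etale A ∧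
      ∀ s : S, ∃ (S' : Scheme.{u}) (f : S' ⟶ S), Etale f ∧ s ∈ Set.range f.base ∧
        ∃ (M N : Type) (_ : AddCommGroup M) (_ : AddCommGroup N),
          Nonempty (Grp.mk (Red.bc f H) ≅ Grp.mk (Red.DS S' M)) ∧ Nonempty (Grp.mk (Red.bc f G) ≅ Grp.mk (Red.DS S' N)) ∧
            Nonempty (Red.bc f A ≅ TwC.const S' (ULift.{u} (N →+ M))) := by
  choose S₁ f₁ hf₁ ha₁ M hM eH using hH
  choose S₂ f₂ hf₂ ha₂ N hN hFG eG using hG
  letI := hM
  letI := hN
  let S' : S → Scheme.{u} := fun s => pullback (f₁ s) (f₂ s)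
  let f : ∀ s, S' s ⟶ S := fun s => pullback.fst (f₁ s) (f₂ s) ≫ f₁ s
  haveI : ∀ s, Etale (f s) := fun s => by haveI := hf₁ s; haveI := hf₂ s; infer_instance
  have hmem : ∀ s, s ∈ Set.range (f s) := fun s => by
    obtain ⟨a, ha⟩ := ha₁ s
    obtain ⟨b, hb⟩ := ha₂ s
    obtain ⟨z, hz, -⟩ := Scheme.Pullback.exists_preimage_pullback (f := f₁ s) (g := f₂ s) a b (ha.trans hb.symm)
    exact ⟨z, by show f₁ s (pullback.fst (f₁ s) (f₂ s) z) = s; rw [hz]; exact ha⟩
  let I : S → Type u := fun s => ULift.{u} (N s →+ M s)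
  have hlocal : ∀ s, ∃ υ : H ⊗ (Over.map (f s)).obj (TwC.const (S' s) (I s)) ⟶ G,
      RepOn (f s) (TwC.const (S' s) (I s)) υ := fun s => by
    obtain ⟨e₁⟩ := eH s
    obtain ⟨e₂⟩ := eG s
    let e₂' : Grp.mk (Red.bc (f s) G) ≅ Grp.mk (Red.DS (S' s) (N s)) :=
      bcSplit (f₂ s) (pullback.snd (f₁ s) (f₂ s)) pullback.condition.symm e₂
    haveI := hFG s
    obtain ⟨υ, hυ, -⟩ := exists_representsHom_DS (S' s) (M s) (N s) (I s) Equiv.ulift
    exact exists_repOn_of_representsHom (f s)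
      (representsHom_of_iso (bcSplit (f₁ s) (pullback.fst (f₁ s) (f₂ s)) rfl e₁) e₂' hυ)
  choose υ hυ using hlocal
  obtain ⟨υA, hυA⟩ := exists_repOn_sigma f (fun s => TwC.const (S' s) (I s)) υ hυ
  haveI : Etale (Limits.Sigma.desc f) := IsZariskiLocalAtSource.sigmaDesc fun s => inferInstance
  haveI : Surjective (Limits.Sigma.desc f) := ⟨fun s => by
    obtain ⟨a, ha⟩ := hmem s
    exact ⟨Sigma.ι S' s a, by rw [← Scheme.Hom.comp_apply, Sigma.ι_desc, ha]⟩⟩
  haveI : SchDesc.IsFpqc (Limits.Sigma.desc f) := SchDesc.IsFpqc.of_locallyOfFinitePresentation _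
  obtain ⟨U, υU, hU, q, hq⟩ := exists_representsHom hυA fun D hD => by
    have hE : Etale D.obj.hom := by
      rw [hD]; exact SchDesc.prop_sigmaMap @Etale _ fun s => (TwConst.etale_separated_const _ _).1
    haveI := hE
    haveI : IsSeparated D.obj.hom := by
      rw [hD]; exact SchDesc.prop_sigmaMap @IsSeparated _ fun s => (TwConst.etale_separated_const _ _).2
    haveI : LocallyQuasiFinite D.obj.hom := Unibranch.locallyQuasiFinite_of_etale _
    exact Groth.Agent.S9726.result _ D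
  suffices hcst : ∀ s, Nonempty (Red.bc (f s) U ≅ TwC.const (S' s) (I s)) by
    refine ⟨U, υU, hU, fun s => ⟨S' s, f s, inferInstance, hmem s, I s, hcst s⟩, fun s => ?_⟩
    obtain ⟨e₁⟩ := eH s
    obtain ⟨e₂⟩ := eG s
    exact ⟨S' s, f s, inferInstance, hmem s, M s, N s, hM s, hN s, ⟨bcSplit (f₁ s) (pullback.fst (f₁ s) (f₂ s)) rfl e₁⟩,
      ⟨bcSplit (f₂ s) (pullback.snd (f₁ s) (f₂ s)) pullback.condition.symm e₂⟩, hcst s⟩
  intro s
  have hsq := SchDesc.isPullback_sigmaMap (fun s => (TwC.const (S' s) (I s)).hom) s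
  have hP : IsPullback (Sigma.ι (fun s => (TwC.const (S' s) (I s)).left) s ≫ q) (TwC.const (S' s) (I s)).hom U.hom (f s) := by
    have h := hsq.paste_horiz hq
    rwa [Sigma.ι_desc] at h
  exact ⟨(Over.isoMk hP.isoPullback hP.isoPullback_hom_snd).symm⟩

/-- Homomorphisms into a group of finite type with etale local splittings form a twisted constant scheme. -/
theorem exists_representsHom_quasi (H G : Over S) [GrpObj H] [GrpObj G]
    (hH : TwC.Locally S TwC.Topology.etale (fun S' f => ∃ (M : Type) (_ : AddCommGroup M),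
      Nonempty (Grp.mk (Red.bc f H) ≅ Grp.mk (Red.DS S' M))))
    (hG : TwC.Locally S TwC.Topology.etale (fun S' f => ∃ (M : Type) (_ : AddCommGroup M),
      AddGroup.FG M ∧ Nonempty (Grp.mk (Red.bc f G) ≅ Grp.mk (Red.DS S' M)))) :
    ∃ (A : Over S) (υ : H ⊗ A ⟶ G), AutFam.RepresentsHom H G A υ ∧ TwC.IsTwConst TwC.Topology.etale A := by
  obtain ⟨A, υ, h, h', -⟩ := exists_representsHom_quasi' H G hH hG
  exact ⟨A, υ, h, h'⟩

end Groth.Agent.HomRep
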