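import Mathlib
/-!
Weil restriction of an algebra along a finite projective algebra.
-/

set_option autoImplicit false
set_option linter.style.haveILetI false

universe u

open TensorProduct

noncomputable section

namespace Groth.Agent.HomRep

variable {R : Type u} [CommRing R] {B : Type u} [CommRing B] [Algebra R B]

/-- The coordinate functional with parameters. -/
def coordT (s : B →ₗ[R] R) (T : Type u) [CommRing T] [Algebra R T] : B ⊗[R] T →ₗ[R] T :=
  (TensorProduct.lid R T).toLinearMap ∘ₗ LinearMap.rTensor T s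

@[simp]
theorem coordT_tmul (s : B →ₗ[R] R) {T : Type u} [CommRing T] [Algebra R T] (b : B) (t : T) :
    coordT s T (b ⊗ₜ t) = s b • t := by
  simp [coordT]

theorem coordT_map (s : B →ₗ[R] R) {T T' : Type u} [CommRing T] [Algebra R T] [CommRing T'] [Algebra R T']
    (g : T →ₐ[R] T') (z : B ⊗[R] T) :
    coordT s T' (Algebra.TensorProduct.map (AlgHom.id R B) g z) = g (coordT s T z) := by
  induction z using TensorProduct.induction_on with
  | zero => simp
  | tmul b t => simp
  | add a b ha hb => simp [map_add, ha, hb]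

variable {n : ℕ} (e : Fin n → B) (s : Fin n → B →ₗ[R] R) (hes : ∀ b, ∑ i, s i b • e i = b)

include hes in
theorem sum_coordT {T : Type u} [CommRing T] [Algebra R T] (z : B ⊗[R] T) :
    ∑ i, e i ⊗ₜ[R] coordT (s i) T z = z := by
  induction z using TensorProduct.induction_on with
  | zero => simp
  | tmul b t =>
    simp only [coordT_tmul, ← TensorProduct.smul_tmul, ← TensorProduct.sum_tmul, hes]
  | add a b ha hb => simp [map_add, TensorProduct.tmul_add, Finset.sum_add_distrib, ha, hb]

variable {A : Type u} [CommRing A] [Algebra R A] {σ : Type u} (π : MvPolynomial σ R →ₐ[R] A)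

/-- The universal coordinates. -/
def weilTheta : MvPolynomial σ R →ₐ[R] B ⊗[R] MvPolynomial (σ × Fin n) R :=
  MvPolynomial.aeval fun x => ∑ i, e i ⊗ₜ[R] MvPolynomial.X (x, i)

/-- The generators of the relations. -/
def weilGen (F : Set (MvPolynomial σ R)) : Set (MvPolynomial (σ × Fin n) R) :=
  Set.range (fun p : σ × Fin n => MvPolynomial.X p - coordT (s p.2) _ (weilTheta e (MvPolynomial.X p.1))) ∪
    (fun p : MvPolynomial σ R × Fin n => coordT (s p.2) _ (weilTheta e p.1)) '' (F ×ˢ Set.univ)

include hes in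
theorem exists_weilRes_core (hπ : Function.Surjective π) (F : Set (MvPolynomial σ R))
    (hF : Ideal.span F = RingHom.ker π) {W : Type u} [CommRing W] [Algebra R W]
    (mk : MvPolynomial (σ × Fin n) R →ₐ[R] W) (hmks : Function.Surjective mk)
    (hmkk : RingHom.ker mk = Ideal.span (weilGen e s F)) :
    ∃ u : A →ₐ[R] B ⊗[R] W, ∀ (T : Type u) [CommRing T] [Algebra R T] (ψ : A →ₐ[R] B ⊗[R] T),
        ∃! g : W →ₐ[R] T, (Algebra.TensorProduct.map (AlgHom.id R B) g).comp u = ψ := by
  let θ : MvPolynomial σ R →ₐ[R] B ⊗[R] W :=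
    (Algebra.TensorProduct.map (AlgHom.id R B) mk).comp (weilTheta e)
  have hmk : ∀ z ∈ weilGen e s F, mk z = 0 := fun z hz =>
    RingHom.mem_ker.1 (hmkk ▸ Ideal.subset_span hz)
  have hker : RingHom.ker π ≤ RingHom.ker θ := by
    rw [← hF, Ideal.span_le]
    intro f hf
    show θ f = 0
    rw [← sum_coordT e s hes (θ f)]
    refine Finset.sum_eq_zero fun i _ => ?_
    show e i ⊗ₜ[R] coordT (s i) _ ((Algebra.TensorProduct.map (AlgHom.id R B) mk) (weilTheta e f)) = 0
    rw [coordT_map, hmk _ (Or.inr ⟨(f, i), ⟨hf, trivial⟩, rfl⟩), TensorProduct.tmul_zero]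
  let u := AlgHom.liftOfSurjective π hπ θ hker
  have hu : ∀ p, u (π p) = θ p := AlgHom.liftOfSurjective_apply π hπ θ hker
  refine ⟨u, fun T _ _ ψ => ?_⟩
  let c : MvPolynomial (σ × Fin n) R →ₐ[R] T :=
    MvPolynomial.aeval fun p => coordT (s p.2) T (ψ (π (MvPolynomial.X p.1)))
  have hc : ∀ p, Algebra.TensorProduct.map (AlgHom.id R B) c (weilTheta e p) = ψ (π p) := by
    have h : (Algebra.TensorProduct.map (AlgHom.id R B) c).comp (weilTheta e) = ψ.comp π := by
      refine MvPolynomial.algHom_ext fun x => ?_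
      simp only [AlgHom.comp_apply, weilTheta, MvPolynomial.aeval_X, map_sum, Algebra.TensorProduct.map_tmul,
        AlgHom.coe_id, id_eq, c]
      exact sum_coordT e s hes _
    exact fun p => DFunLike.congr_fun h p
  have hcJ : RingHom.ker mk ≤ RingHom.ker c := by
    rw [hmkk, Ideal.span_le]
    rintro z (⟨⟨x, j⟩, rfl⟩ | ⟨⟨f, i⟩, ⟨hf, -⟩, rfl⟩)
    · show c _ = 0
      rw [map_sub, ← coordT_map, hc]
      simp [c]
    · show c _ = 0
      rw [← coordT_map, hc, show π f = 0 from (hF ▸ Ideal.subset_span hf : f ∈ RingHom.ker π), map_zero, map_zero]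
  let g₀ := AlgHom.liftOfSurjective mk hmks c hcJ
  have hg₀ : g₀.comp mk = c := AlgHom.ext (AlgHom.liftOfSurjective_apply mk hmks c hcJ)
  refine ⟨g₀, ?_, fun g hg => ?_⟩
  · refine AlgHom.ext fun a => ?_
    obtain ⟨p, rfl⟩ := hπ a
    rw [AlgHom.comp_apply, hu, ← hc p]
    show (Algebra.TensorProduct.map (AlgHom.id R B) g₀) (Algebra.TensorProduct.map (AlgHom.id R B) mk _) = _
    rw [← AlgHom.comp_apply, ← Algebra.TensorProduct.map_comp, AlgHom.id_comp, hg₀]
    rfl
  · refine AlgHom.cancel_right hmks |>.1 (MvPolynomial.algHom_ext fun p => ?_)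
    have h := hmk _ (Or.inl ⟨p, rfl⟩)
    rw [map_sub, sub_eq_zero] at h
    rw [hg₀, AlgHom.comp_apply, h, ← coordT_map, ← coordT_map]
    show coordT (s p.2) T (Algebra.TensorProduct.map (AlgHom.id R B) g (θ _)) = _
    rw [← hu, ← AlgHom.comp_apply, hg]
    simp [c]

/-- Quotients, abstractly. -/
theorem exists_quot (R Q : Type u) [CommRing R] [CommRing Q] [Algebra R Q] (J : Ideal Q) :
    ∃ (W : Type u) (_ : CommRing W) (_ : Algebra R W) (mk : Q →ₐ[R] W), Function.Surjective mk ∧ RingHom.ker mk = J :=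
  ⟨Q ⧸ J, inferInstance, inferInstance, Ideal.Quotient.mkₐ R J, Ideal.Quotient.mk_surjective, Ideal.mk_ker⟩

/-- Weil restriction of an algebra along a finite projective algebra. -/
theorem exists_weilRes_alg (R : Type u) [CommRing R] (B : Type u) [CommRing B] [Algebra R B] [Module.Finite R B]
    [Module.Projective R B] (A : Type u) [CommRing A] [Algebra R A] :
    ∃ (W : Type u) (_ : CommRing W) (_ : Algebra R W) (u : A →ₐ[R] B ⊗[R] W),
      (∀ (T : Type u) [CommRing T] [Algebra R T] (ψ : A →ₐ[R] B ⊗[R] T),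
        ∃! g : W →ₐ[R] T, (Algebra.TensorProduct.map (AlgHom.id R B) g).comp u = ψ) ∧
      (Algebra.FiniteType R A → Algebra.FiniteType R W) ∧
      (Algebra.FinitePresentation R A → Algebra.FinitePresentation R W) := by
  obtain ⟨n, p, hp⟩ := Module.Finite.exists_fin' R B
  obtain ⟨l, hl⟩ := Module.projective_lifting_property p LinearMap.id hp
  let e : Fin n → B := fun i => p (Pi.single i 1)
  let s : Fin n → B →ₗ[R] R := fun i => (LinearMap.proj i).comp l
  have hes : ∀ b, ∑ i, s i b • e i = b := fun b => by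
    show ∑ i, l b i • p (Pi.single i 1) = b
    rw [← Finset.sum_congr rfl (fun i _ => map_smul p (l b i) (Pi.single i 1)), ← map_sum, ← pi_eq_sum_univ']
    exact DFunLike.congr_fun hl b
  by_cases hfp : Algebra.FinitePresentation R A
  · obtain ⟨k, φ, hφ, hker⟩ := hfp.out
    let π : MvPolynomial (ULift.{u} (Fin k)) R →ₐ[R] A :=
      φ.comp (MvPolynomial.renameEquiv R Equiv.ulift).toAlgHom
    have hπ : Function.Surjective π := hφ.comp (AlgEquiv.surjective _)
    obtain ⟨F, hF⟩ : (RingHom.ker π).FG := Algebra.FinitePresentation.ker_fG_of_surjective π hπ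
    obtain ⟨W, _, _, mk, hmks, hmkk⟩ := exists_quot R (MvPolynomial (ULift.{u} (Fin k) × Fin n) R)
      (Ideal.span (weilGen e s (↑F : Set (MvPolynomial (ULift.{u} (Fin k)) R))))
    obtain ⟨u, hu⟩ := exists_weilRes_core e s hes π hπ ↑F hF mk hmks hmkk
    have hfg : (RingHom.ker mk.toRingHom).FG := by
      show (RingHom.ker mk).FG
      rw [hmkk]
      exact Submodule.fg_span ((Set.finite_range _).union ((F.finite_toSet.prod Set.finite_univ).image _))
    exact ⟨W, inferInstance, inferInstance, u, hu, fun _ => Algebra.FiniteType.of_surjective mk hmks,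
      fun _ => Algebra.FinitePresentation.of_surjective hmks hfg⟩
  by_cases hft : Algebra.FiniteType R A
  · obtain ⟨ι, _, π, hπ⟩ := Algebra.FiniteType.iff_quotient_mvPolynomial'.1 hft
    obtain ⟨W, _, _, mk, hmks, hmkk⟩ := exists_quot R (MvPolynomial (ι × Fin n) R)
      (Ideal.span (weilGen e s (RingHom.ker π : Set (MvPolynomial ι R))))
    obtain ⟨u, hu⟩ := exists_weilRes_core e s hes π hπ (RingHom.ker π) (Ideal.span_eq _) mk hmks hmkk
    exact ⟨W, inferInstance, inferInstance, u, hu, fun _ => Algebra.FiniteType.of_surjective mk hmks,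
      fun h => absurd h hfp⟩
  · let π : MvPolynomial A R →ₐ[R] A := MvPolynomial.aeval id
    have hπ : Function.Surjective π := fun a => ⟨MvPolynomial.X a, by simp [π]⟩
    obtain ⟨W, _, _, mk, hmks, hmkk⟩ := exists_quot R (MvPolynomial (A × Fin n) R)
      (Ideal.span (weilGen e s (RingHom.ker π : Set (MvPolynomial A R))))
    obtain ⟨u, hu⟩ := exists_weilRes_core e s hes π hπ (RingHom.ker π) (Ideal.span_eq _) mk hmks hmkk
    exact ⟨W, inferInstance, inferInstance, u, hu, fun h => absurd h hft, fun h => absurd h hfp⟩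

end Groth.Agent.HomRep
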