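import Groth.Agent.HomRep.DS
import Groth.Agent.HomRep.WeilAlg
/-!
Weil restriction of an affine scheme along a finite locally free one, over an affine base.
-/

set_option autoImplicit false
set_option backward.isDefEq.respectTransparency false
set_option backward.isDefEq.respectTransparency.types false
set_option linter.style.haveILetI false

universe u

open CategoryTheory CategoryTheory.Limits MonoidalCategory CartesianMonoidalCategory AlgebraicGeometry TensorProduct

noncomputable section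

namespace Groth.Agent.HomRep

/-- Representing restricted morphisms out of a product may be tested on affine parameter schemes. -/
theorem represents_of_affine' {S : Scheme.{u}} {H G W : Over S} (ev : H ⊗ W ⟶ G)
    (P : ∀ {T : Over S}, (H ⊗ T ⟶ G) → Prop) (hP : ∀ {T' T : Over S} (t : T' ⟶ T) {φ : H ⊗ T ⟶ G}, P φ → P ((H ◁ t) ≫ φ))
    (hev : P ev)
    (h : ∀ (D : CommRingCat.{u}) (q : Spec D ⟶ S) (φ : H ⊗ Over.mk q ⟶ G), P φ → ∃! a : Over.mk q ⟶ W, (H ◁ a) ≫ ev = φ)
    (T : Over S) (φ : H ⊗ T ⟶ G) (hφ : P φ) : ∃! a : T ⟶ W, (H ◁ a) ≫ ev = φ := by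
  have huniq : ∀ (T : Over S) (a b : T ⟶ W), (H ◁ a) ≫ ev = (H ◁ b) ≫ ev → a = b := fun T a b hab => by
    refine FixedSmooth.hom_ext_affine _ _ fun D q x => ?_
    refine (h D q ((H ◁ (x ≫ a)) ≫ ev) (hP _ hev)).unique rfl ?_
    rw [whiskerLeft_comp_assoc, whiskerLeft_comp_assoc, hab]
  choose U hU hmem _hle using fun t : T.left => exists_isAffineOpen_mem_and_subset (U := (⊤ : T.left.Opens)) (x := t) trivial
  have hex : ∀ t, ∃ a : Over.mk ((U t).ι ≫ T.hom) ⟶ W, (H ◁ a) ≫ ev = (H ◁ openRes T (U t)) ≫ φ := fun t => by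
    let e : Over.mk ((hU t).fromSpec ≫ T.hom) ≅ Over.mk ((U t).ι ≫ T.hom) :=
      Over.isoMk (hU t).isoSpec.symm (by
        show (hU t).isoSpec.inv ≫ (U t).ι ≫ T.hom = (hU t).fromSpec ≫ T.hom
        rw [← Category.assoc, IsAffineOpen.isoSpec_inv_ι])
    obtain ⟨a, ha, -⟩ := h _ ((hU t).fromSpec ≫ T.hom) ((H ◁ e.hom) ≫ (H ◁ openRes T (U t)) ≫ φ) (hP _ (hP _ hφ))
    refine ⟨e.inv ≫ a, ?_⟩
    rw [whiskerLeft_comp_assoc, ha, ← whiskerLeft_comp_assoc, Iso.inv_hom_id, whiskerLeft_id, Category.id_comp]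
  choose a ha using hex
  have hsup : ⨆ t, U t = ⊤ := top_le_iff.mp fun t _ => TopologicalSpace.Opens.mem_iSup.mpr ⟨t, hmem t⟩
  let 𝒰 := T.left.openCoverOfIsOpenCover U hsup
  have hcompat : ∀ t t', pullback.fst (U t).ι (U t').ι ≫ (a t).left = pullback.snd (U t).ι (U t').ι ≫ (a t').left := fun t t' => by
    let V : Over S := Over.mk (pullback.fst (U t).ι (U t').ι ≫ (U t).ι ≫ T.hom)
    let p : V ⟶ Over.mk ((U t).ι ≫ T.hom) := Over.homMk (pullback.fst (U t).ι (U t').ι) rfl
    let p' : V ⟶ Over.mk ((U t').ι ≫ T.hom) := Over.homMk (pullback.snd (U t).ι (U t').ι) (pullback.condition_assoc _).symm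
    have hp : p ≫ openRes T (U t) = p' ≫ openRes T (U t') := Over.OverMorphism.ext pullback.condition
    refine congrArg CommaMorphism.left (huniq V (p ≫ a t) (p' ≫ a t') ?_)
    rw [whiskerLeft_comp_assoc, whiskerLeft_comp_assoc, ha, ha, ← whiskerLeft_comp_assoc, hp, whiskerLeft_comp_assoc]
  let al : T.left ⟶ W.left := 𝒰.glueMorphisms (fun t => (a t).left) hcompat
  have hal : ∀ t, (U t).ι ≫ al = (a t).left := fun t => 𝒰.ι_glueMorphisms _ hcompat t
  let A : T ⟶ W := Over.homMk al (𝒰.hom_ext _ _ fun t => by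
    show (U t).ι ≫ al ≫ W.hom = (U t).ι ≫ T.hom
    rw [reassoc_of% hal t, Over.w (a t)]
    rfl)
  have hA : ∀ t, openRes T (U t) ≫ A = a t := fun t => Over.OverMorphism.ext (hal t)
  have hAφ : (H ◁ A) ≫ ev = φ := fam_ext_opens U (fun t => ⟨t, hmem t⟩) fun t => by
    rw [← whiskerLeft_comp_assoc, hA, ha]
  exact ⟨A, hAφ, fun b hb => huniq T b A (hb.trans hAφ.symm)⟩

/-- Representing morphisms out of a product may be tested on affine parameter schemes. -/
theorem represents_of_affine {S : Scheme.{u}} {H G W : Over S} (ev : H ⊗ W ⟶ G)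
    (h : ∀ (D : CommRingCat.{u}) (q : Spec D ⟶ S) (φ : H ⊗ Over.mk q ⟶ G), ∃! a : Over.mk q ⟶ W, (H ◁ a) ≫ ev = φ)
    (T : Over S) (φ : H ⊗ T ⟶ G) : ∃! a : T ⟶ W, (H ◁ a) ≫ ev = φ :=
  represents_of_affine' ev (fun _ => True) (fun _ _ _ => trivial) trivial (fun D q φ _ => h D q φ) T φ trivial

variable {R : Type u} [CommRing R]

/-- A morphism between spectra over a base comes from an algebra map. -/
theorem exists_algHom {A D : Type u} [CommRing A] [CommRing D] [Algebra R A] [Algebra R D]
    (k : Spec (CommRingCat.of D) ⟶ Spec (CommRingCat.of A))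
    (hk : k ≫ Spec.map (CommRingCat.ofHom (algebraMap R A)) = Spec.map (CommRingCat.ofHom (algebraMap R D))) :
    ∃ ψ : A →ₐ[R] D, Spec.map (CommRingCat.ofHom ψ.toRingHom) = k := by
  obtain ⟨f, rfl⟩ := Spec.map_surjective k
  have hf : CommRingCat.ofHom (algebraMap R A) ≫ f = CommRingCat.ofHom (algebraMap R D) :=
    Spec.map_injective ((Spec.map_comp _ _).trans hk)
  exact ⟨{ toRingHom := f.hom, commutes' := fun r => congr($(hf).hom r) }, rfl⟩

/-- The Weil restriction between spectra. -/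
theorem exists_weilRes_Spec (B A : Type u) [CommRing B] [Algebra R B] [Module.Finite R B] [Module.Projective R B]
    [CommRing A] [Algebra R A] :
    ∃ (W : Over (Spec (CommRingCat.of R))) (ev : Over.mk (Spec.map (CommRingCat.ofHom (algebraMap R B))) ⊗ W ⟶
        Over.mk (Spec.map (CommRingCat.ofHom (algebraMap R A)))),
      IsAffineHom W.hom ∧
      (Algebra.FiniteType R A → LocallyOfFiniteType W.hom) ∧
      (Algebra.FinitePresentation R A → LocallyOfFinitePresentation W.hom) ∧
      ∀ (T : Over (Spec (CommRingCat.of R))) (φ : Over.mk (Spec.map (CommRingCat.ofHom (algebraMap R B))) ⊗ T ⟶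
        Over.mk (Spec.map (CommRingCat.ofHom (algebraMap R A)))), ∃! a : T ⟶ W, (_ ◁ a) ≫ ev = φ := by
  obtain ⟨W₀, _, _, u, hu, hft, hfp⟩ := exists_weilRes_alg R B A
  let H : Over (Spec (CommRingCat.of R)) := Over.mk (Spec.map (CommRingCat.ofHom (algebraMap R B)))
  let G : Over (Spec (CommRingCat.of R)) := Over.mk (Spec.map (CommRingCat.ofHom (algebraMap R A)))
  let W : Over (Spec (CommRingCat.of R)) := Over.mk (Spec.map (CommRingCat.ofHom (algebraMap R W₀)))
  let P : ∀ (D : Type u) [CommRing D] [Algebra R D],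
      (H ⊗ Over.mk (Spec.map (CommRingCat.ofHom (algebraMap R D)))).left ≅ Spec (CommRingCat.of (B ⊗[R] D)) :=
    fun D _ _ => pullbackSpecIso R B D
  have hPbase : ∀ (D : Type u) [CommRing D] [Algebra R D],
      (P D).hom ≫ Spec.map (CommRingCat.ofHom (algebraMap R (B ⊗[R] D))) =
        (H ⊗ Over.mk (Spec.map (CommRingCat.ofHom (algebraMap R D)))).hom := fun D _ _ =>
    pullbackSpecIso_hom_base R B D
  let ev : H ⊗ W ⟶ G := Over.homMk ((P W₀).hom ≫ Spec.map (CommRingCat.ofHom u.toRingHom)) (by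
    show ((P W₀).hom ≫ Spec.map _) ≫ Spec.map _ = _
    rw [Category.assoc, ← Spec.map_comp, ← hPbase]
    congr 2
    exact CommRingCat.hom_ext (u.comp_algebraMap))
  haveI : IsAffine W.left := inferInstanceAs (IsAffine (Spec _))
  haveI : IsAffineHom W.hom := inferInstanceAs (IsAffineHom (Spec.map _))
  refine ⟨W, ev, inferInstance, fun h => ?_, fun h => ?_, represents_of_affine ev fun D q φ => ?_⟩
  · show LocallyOfFiniteType (Spec.map _)
    rw [HasRingHomProperty.Spec_iff (P := @LocallyOfFiniteType)]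
    exact RingHom.finiteType_algebraMap.2 (hft h)
  · show LocallyOfFinitePresentation (Spec.map _)
    rw [HasRingHomProperty.Spec_iff (P := @LocallyOfFinitePresentation)]
    exact RingHom.finitePresentation_algebraMap.2 (hfp h)
  obtain ⟨g, rfl⟩ := Spec.map_surjective q
  letI : Algebra R D := g.hom.toAlgebra
  have hnat : ∀ (g' : W₀ →ₐ[R] D) (a : Over.mk (Spec.map g) ⟶ W),
      a.left = Spec.map (CommRingCat.ofHom g'.toRingHom) →
      ((H ◁ a) ≫ ev).left = (P D).hom ≫
        Spec.map (CommRingCat.ofHom ((Algebra.TensorProduct.map (AlgHom.id R B) g').comp u).toRingHom) := fun g' a ha => by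
    have h1 : (H ◁ a).left ≫ (P W₀).hom =
        (P D).hom ≫ Spec.map (CommRingCat.ofHom (Algebra.TensorProduct.map (AlgHom.id R B) g').toRingHom) := by
      rw [← cancel_mono (P W₀).inv, Category.assoc, Iso.hom_inv_id, Category.comp_id, Category.assoc,
        ← cancel_epi (P D).inv, Iso.inv_hom_id_assoc]
      refine pullback.hom_ext (f := H.hom) (g := W.hom) ?_ ?_
      · have e1 : (H ◁ a).left ≫ pullback.fst H.hom W.hom = pullback.fst H.hom (Spec.map g) :=
          congrArg CommaMorphism.left (whiskerLeft_fst H a)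
        rw [Category.assoc, e1, Category.assoc]
        refine (pullbackSpecIso_inv_fst R B D).trans ?_
        refine Eq.trans ?_ (congrArg (Spec.map _ ≫ ·) (pullbackSpecIso_inv_fst R B W₀).symm)
        rw [← Spec.map_comp]
        congr 1
        exact CommRingCat.hom_ext (RingHom.ext fun b => by simp)
      · have e1 : (H ◁ a).left ≫ pullback.snd H.hom W.hom = pullback.snd H.hom (Spec.map g) ≫ a.left :=
          congrArg CommaMorphism.left (whiskerLeft_snd H a)
        rw [Category.assoc, e1, Category.assoc, ha, ← Category.assoc]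
        refine (congrArg (· ≫ Spec.map _) (pullbackSpecIso_inv_snd R B D)).trans ?_
        refine Eq.trans ?_ (congrArg (Spec.map _ ≫ ·) (pullbackSpecIso_inv_snd R B W₀).symm)
        rw [← Spec.map_comp, ← Spec.map_comp]
        congr 1
    show (H ◁ a).left ≫ (P W₀).hom ≫ _ = _
    rw [reassoc_of% h1, ← Spec.map_comp]
    rfl
  obtain ⟨ψ, hψ⟩ := exists_algHom (R := R) (A := A) ((P D).inv ≫ φ.left) (by
    rw [Category.assoc, Iso.inv_comp_eq]
    exact (Over.w φ).trans (hPbase D).symm)
  obtain ⟨g', hg', hguniq⟩ := hu D ψ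
  let a : Over.mk (Spec.map g) ⟶ W := Over.homMk (Spec.map (CommRingCat.ofHom g'.toRingHom)) (by
    show Spec.map _ ≫ Spec.map _ = Spec.map g
    rw [← Spec.map_comp]
    congr 1
    exact CommRingCat.hom_ext g'.comp_algebraMap)
  refine ⟨a, Over.OverMorphism.ext ?_, fun b hb => Over.OverMorphism.ext ?_⟩
  · rw [hnat g' a rfl, hg', hψ, Iso.hom_inv_id_assoc]
  · obtain ⟨gb, hgb⟩ := exists_algHom (R := R) (A := W₀) (D := D) b.left (Over.w b)
    have h2 : (Algebra.TensorProduct.map (AlgHom.id R B) gb).comp u = ψ := by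
      have h3 := (hnat gb b hgb.symm).symm.trans (congrArg CommaMorphism.left hb)
      refine AlgHom.coe_ringHom_injective ?_
      have h4 : Spec.map (CommRingCat.ofHom ((Algebra.TensorProduct.map (AlgHom.id R B) gb).comp u).toRingHom) =
          Spec.map (CommRingCat.ofHom ψ.toRingHom) := by
        rw [hψ]
        exact (Iso.eq_inv_comp _).mpr h3
      exact congrArg CommRingCat.Hom.hom (Spec.map_injective h4)
    rw [← hgb, hguniq gb h2]
    rfl

end Groth.Agent.HomRep
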